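import Cfsg.Agent.RuRec12.Defs
import Cfsg.Agent.SporB.Ru.Main
import Mathlib.Algebra.BigOperators.Group.Finset.Basic

/-!
Words, forests and labels, interpreted in the permutation group.
-/

set_option autoImplicit false
set_option maxRecDepth 100000

namespace Cfsg.Agent.RuRec12

open Cfsg.Agent.CosetEnum Cfsg.Agent.SporB.Ru

/-- The stabiliser of the first point. -/
noncomputable abbrev S0 : Subgroup (Equiv.Perm Pt) := sg [4, 6]

/-- Letters of the stabiliser and its chain. -/
def S6 : List ℕ := [4, 6, 8, 10, 12, 14]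

/-- The action of a word from left to right. -/
noncomputable def pr (W : List ℕ) : Equiv.Perm Pt := (evalWord (val lettersOK) W)⁻¹

/-- The inverse word. -/
def iW (W : List ℕ) : List ℕ := (W.map linv).reverse

theorem pr_apply {W : List ℕ} (h : ∀ l ∈ W, l < nl) (i : Pt) : ((pr W i : Pt) : ℕ) = go W i :=
  go_eval lettersOK W h i

theorem pr_nil : pr [] = 1 := by rw [pr]; exact inv_one

theorem pr_append (A B : List ℕ) : pr (A ++ B) = pr B * pr A := by
  rw [pr, pr, pr, evalWord_append, mul_inv_rev]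

theorem pr_iW : ∀ {W : List ℕ}, (∀ l ∈ W, l < nl) → pr (iW W) = (pr W)⁻¹
  | [], _ => by rw [show iW [] = [] from rfl, pr_nil, inv_one]
  | l :: W, h => by
    rw [show iW (l :: W) = iW W ++ [linv l] by simp [iW], pr_append,
      pr_iW fun x hx => h x (List.mem_cons_of_mem _ hx), show l :: W = [l] ++ W from rfl, pr_append,
      mul_inv_rev]
    congr 1
    show (val lettersOK (linv l) * 1)⁻¹ = ((val lettersOK l * 1)⁻¹)⁻¹
    rw [mul_one, mul_one, inv_inv, val_linv lettersOK (h l List.mem_cons_self), inv_inv]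

theorem pr_mem {W : List ℕ} (h : inS S6 W = true) : pr W ∈ S0 := by
  refine inv_mem ?_
  show evalWord (val lettersOK) W ∈ sg [4, 6]
  rw [← deep_g0]
  exact eval_mem lettersOK h

theorem pr_eq {A B : List ℕ} (hA : inS S6 A = true) (hB : inS S6 B = true) (h : agree A B = true) :
    pr A = pr B := by
  have hA' := pr_mem hA
  have hB' := pr_mem hB
  rw [pr, pr] at *
  exact congrArg (·⁻¹) (agree_eq lettersOK faithful_H (inS_lt hA) (inS_lt hB)
    (g00 (inv_mem_iff.1 hA')) (g00 (inv_mem_iff.1 hB')) h)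

theorem pr_singleton {l : ℕ} (hl : l < nl) (i : Pt) : ((pr [l] i : Pt) : ℕ) = act i l := by
  rw [pr_apply (by simpa using hl)]
  show forceNat (act i l) (fun x => x) = _
  rw [forceNat_eq]

theorem fix_zero {g : Equiv.Perm Pt} (hg : g ∈ S0) : g 0 = 0 := by
  change g ∈ sg [4, 6] at hg
  rw [← g0_step.2.1] at hg
  exact hg.2

theorem S0_le_autG : S0 ≤ autG rows := by
  refine g00.trans (sg_le ?_)
  intro l hl
  rcases list_cases2 hl with rfl | rfl
  · exact mem_autG lettersOK (by decide) net0_ok rows0_ok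
  · exact mem_autG lettersOK (by decide) net2_ok rows2_ok

/-- A special permutation. -/
noncomputable def sp (g : ℕ) : Equiv.Perm Pt := pr (pW.getD g [])

/-- The tuple of a code. -/
noncomputable def pt? (x : ℕ) : Pt := if h : x < 4060 then ⟨x, h⟩ else 0

theorem pt?_val {x : ℕ} (h : x < 4060) : ((pt? x : Pt) : ℕ) = x := by rw [pt?, dif_pos h]

theorem pt?_self (x : Pt) : pt? x = x := Fin.ext (pt?_val x.2)

/-- The generated subgroup of some special permutations. -/
noncomputable def spg (L : List ℕ) : Subgroup (Equiv.Perm Pt) := Subgroup.closure {g | g ∈ L.map sp}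

section forest

variable {F : Fst}

theorem Fst.node_spec (hpap : ∀ g ∈ F.gens, ∀ x : Pt, pap g x = ((sp g x : Pt) : ℕ))
    (h : ∀ i < F.n, F.node i = true) :
    ∀ i < F.n, ∃ k < F.roots.length, ∃ g ∈ spg F.gens, ∀ j < 4,
      fld (F.at_ i) j < 4060 ∧ g (pt? (fld (F.roots.getD k 0) j)) = pt? (fld (F.at_ i) j) := by
  intro i
  induction i using Nat.strong_induction_on with
  | _ i ih =>
    intro hi
    have hh := h i hi
    simp only [Fst.node, Bool.and_eq_true] at hh
    have hlt : ∀ j < 4, fld (F.at_ i) j < 4060 := fun j hj =>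
      Nat.le_of_ble_eq_true (allRange_spec hh.1 j (Nat.zero_le _) (by omega))
    have h2 := hh.2
    cases hb : Nat.beq (F.gn i) 15
    · rw [hb, cond_false] at h2
      simp only [Bool.and_eq_true] at h2
      have hp : F.up i < i := Nat.le_of_ble_eq_true h2.1.1
      have hg : F.gn i < F.gens.length := Nat.le_of_ble_eq_true h2.1.2
      obtain ⟨k, hk, g, hgm, hgj⟩ := ih _ hp (hp.trans hi)
      rw [List.getD_eq_getElem _ _ hg] at h2
      refine ⟨k, hk, sp F.gens[F.gn i] * g, mul_mem (Subgroup.subset_closure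
        (List.mem_map_of_mem (List.getElem_mem hg))) hgm, fun j hj => ⟨hlt j hj, ?_⟩⟩
      have e := Nat.eq_of_beq_eq_true (allRange_spec h2.2 j (Nat.zero_le _) (by omega))
      have e' := hpap _ (List.getElem_mem hg) (pt? (fld (F.at_ (F.up i)) j))
      rw [pt?_val (hgj j hj).1, e] at e'
      rw [Equiv.Perm.mul_apply, (hgj j hj).2]
      exact Fin.ext (e'.symm.trans (pt?_val (hlt j hj)).symm)
    · rw [hb, cond_true] at h2
      simp only [Bool.and_eq_true] at h2
      refine ⟨F.up i, Nat.le_of_ble_eq_true h2.1, 1, one_mem _, fun j hj => ⟨hlt j hj, ?_⟩⟩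
      rw [← Nat.eq_of_beq_eq_true h2.2]
      rfl

theorem Fst.code_inj {f : ℕ → ℕ} (h : ∀ i < F.n, F.ranked f i = true) {i j : ℕ} (hi : i < F.n)
    (hj : j < F.n) (e : f (F.at_ i) = f (F.at_ j)) : i = j := by
  have hs : ∀ i < F.n, F.rnk.get 16 i < F.n ∧ F.srt.get 64 (F.rnk.get 16 i) = f (F.at_ i) ∧
      F.pos.get 16 (F.rnk.get 16 i) = i ∧ (i = 0 ∨ F.srt.get 64 (i - 1) < F.srt.get 64 i) := by
    intro i hi
    have hh := h i hi
    simp only [Fst.ranked, Bool.and_eq_true, Bool.or_eq_true] at hh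
    exact ⟨Nat.le_of_ble_eq_true hh.1.1.1, Nat.eq_of_beq_eq_true hh.1.1.2,
      Nat.eq_of_beq_eq_true hh.1.2, hh.2.imp Nat.eq_of_beq_eq_true Nat.le_of_ble_eq_true⟩
  have mono : ∀ b < F.n, ∀ a < b, F.srt.get 64 a < F.srt.get 64 b := by
    intro b
    induction b with
    | zero => intros; omega
    | succ b ih =>
      intro hb a ha
      have h1 : F.srt.get 64 b < F.srt.get 64 (b + 1) := by
        rcases (hs _ hb).2.2.2 with h' | h'
        · omega
        · simpa using h'
      rcases Nat.lt_succ_iff_lt_or_eq.1 ha with h' | rfl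
      · exact (ih (by omega) a h').trans h1
      · exact h1
  obtain ⟨a1, a2, a3, -⟩ := hs i hi
  obtain ⟨b1, b2, b3, -⟩ := hs j hj
  rw [← a3, ← b3]
  congr 1
  rcases Nat.lt_trichotomy (F.rnk.get 16 i) (F.rnk.get 16 j) with h' | h' | h'
  · have := mono _ b1 _ h'; omega
  · exact h'
  · have := mono _ a1 _ h'; omega

end forest

theorem hits_eq (f : ℕ → Bool) : ∀ n, hits f n = ((Finset.range n).filter fun x => f x = true).card
  | 0 => rfl
  | n + 1 => by
    show forceNat (hits f n) (fun a => bif f n then Nat.succ a else a) = _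
    rw [forceNat_eq, hits_eq f n, Finset.range_add_one, Finset.filter_insert]
    cases h : f n
    · simp
    · simp

theorem hits_card (f : ℕ → Bool) :
    hits f 4060 = (Finset.univ.filter fun x : Pt => f x = true).card := by
  rw [hits_eq]
  refine (Finset.card_bij (fun (x : Pt) _ => (x : ℕ)) ?_ ?_ ?_).symm
  · intro x hx
    simp only [Finset.mem_filter, Finset.mem_univ, true_and] at hx
    simpa using hx
  · intro a _ b _ h
    exact Fin.val_injective h
  · intro n hn
    simp only [Finset.mem_filter, Finset.mem_range] at hn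
    exact ⟨⟨n, hn.1⟩, by simpa using hn.2, rfl⟩

section labels

variable {F : Labs} {ap : ℕ → ℕ → ℕ} {pg : ℕ → Equiv.Perm Pt}

theorem Labs.spec (hap : ∀ g ∈ F.gens, ∀ x : Pt, ap g x = ((pg g x : Pt) : ℕ))
    (h : ∀ i < 4060, F.node ap i = true) (x : Pt) :
    F.get x < F.roots.length ∧ F.roots.getD (F.get x) 0 < 4060 ∧
      ∃ g ∈ Subgroup.closure {g | g ∈ F.gens.map pg}, g (pt? (F.roots.getD (F.get x) 0)) = x := by
  have key : ∀ i < 4060, F.at_ i < 4060 ∧ F.get (F.at_ i) < F.roots.length ∧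
      F.roots.getD (F.get (F.at_ i)) 0 < 4060 ∧
      ∃ g ∈ Subgroup.closure {g | g ∈ F.gens.map pg},
        g (pt? (F.roots.getD (F.get (F.at_ i)) 0)) = pt? (F.at_ i) := by
    intro i
    induction i using Nat.strong_induction_on with
    | _ i ih =>
      intro hi
      have hh := h i hi
      simp only [Labs.node, Bool.and_eq_true] at hh
      obtain ⟨⟨⟨⟨hp, hl⟩, h2⟩, -⟩, -⟩ := hh
      have hp : F.at_ i < 4060 := Nat.le_of_ble_eq_true hp
      refine ⟨hp, Nat.le_of_ble_eq_true hl, ?_⟩
      cases hb : Nat.beq (Nat.shiftRight (F.par.get 32 i) 16) 15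
      · rw [hb, cond_false] at h2
        simp only [Bool.and_eq_true] at h2
        obtain ⟨⟨⟨hu, hg⟩, e⟩, el⟩ := h2
        have hu : Nat.land (F.par.get 32 i) 65535 < i := Nat.le_of_ble_eq_true hu
        have hg := Nat.le_of_ble_eq_true hg
        obtain ⟨h1, -, h3, g, hgm, hgx⟩ := ih _ hu (hu.trans hi)
        rw [List.getD_eq_getElem _ _ hg] at e
        rw [← Nat.eq_of_beq_eq_true el]
        refine ⟨h3, pg F.gens[Nat.shiftRight (F.par.get 32 i) 16] * g, mul_mem (Subgroup.subset_closure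
          (List.mem_map_of_mem (List.getElem_mem hg))) hgm, ?_⟩
        have e' := hap _ (List.getElem_mem hg) (pt? (F.at_ (Nat.land (F.par.get 32 i) 65535)))
        rw [pt?_val h1, Nat.eq_of_beq_eq_true e] at e'
        rw [Equiv.Perm.mul_apply, hgx]
        exact Fin.ext (e'.symm.trans (pt?_val hp).symm)
      · rw [hb, cond_true] at h2
        rw [← Nat.eq_of_beq_eq_true h2]
        exact ⟨hp, 1, one_mem _, rfl⟩
  have hh := h x x.2
  simp only [Labs.node, Bool.and_eq_true] at hh
  have e := Nat.eq_of_beq_eq_true hh.2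
  obtain ⟨-, h2, h3, g, hgm, hgx⟩ := key _ (Nat.le_of_ble_eq_true hh.1.2)
  rw [e] at h2 h3 hgx
  rw [pt?_self] at hgx
  exact ⟨h2, h3, g, hgm, hgx⟩

theorem Labs.count (h : F.sized = true) {c : ℕ} (hc : c < F.roots.length) :
    (Finset.univ.filter fun x : Pt => F.get x = c).card = F.sizes.getD c 0 := by
  rw [← Nat.eq_of_beq_eq_true (allRange_spec h c (Nat.zero_le _) (by omega)), hits_card]
  congr 1
  exact Finset.filter_congr fun x _ => ⟨fun h => h ▸ Nat.beq_refl _, Nat.eq_of_beq_eq_true⟩

end labels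

end Cfsg.Agent.RuRec12
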