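import Cfsg.Agent.RuRec12.Forests

/-!
The forests are right.
-/

set_option autoImplicit false
set_option maxRecDepth 100000

namespace Cfsg.Agent.RuRec12

open Cfsg.Agent.CosetEnum Cfsg.Agent.SporB.Ru

theorem sylF_ok : allRange (fun i => sylF.full csym i) 0 14976 = true := by
  decide +kernel

theorem nPF_ok : allRange (fun i => nPF.full cord i) 0 2400 = true := by
  decide +kernel

theorem uvF_ok : allRange (fun i => uvF.full cord i) 0 25 = true := by
  decide +kernel

theorem hPF_ok : allRange (fun i => hPF.full cord i) 0 7800 = true := by
  decide +kernel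

theorem badFs_ok : allRange (fun r => Nat.beq r 13 || allRange (fun i => (badFs.getD r uvF).full csym i) 0 157) 0 15 = true := by
  decide +kernel

/-- A root is the image of the four fixed points. -/
noncomputable def rootPoint (k : ℕ) : Bool :=
  allRange (fun j => Nat.beq (fld (sylRoots.getD k 0) j) (go (bif Nat.beq k 0 then [] else repW.getD (k - 1) []) ([19, 916, 2376, 4012].getD j 0))) 0 4

theorem roots_ok : allRange rootPoint 0 16 = true := by
  decide +kernel

theorem shapes_ok : allRange (fun r => Nat.beq r 13 || ((badFs.getD r uvF).gens == [0, 1, 7 + 2 * r, 8 + 2 * r] && (badFs.getD r uvF).roots == [sylRoots.getD 0 0] && Nat.beq (badFs.getD r uvF).n 157)) 0 15 = true := by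
  decide +kernel

end Cfsg.Agent.RuRec12
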