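import Cfsg.Agent.RuRec12.Defs
import Cfsg.Agent.RuRec12.DataF
import Cfsg.Agent.Twisted.Tits.Tables

/-!
The generators act on the chosen vectors as their words do on the points.
-/

set_option autoImplicit false
set_option maxRecDepth 100000

namespace Cfsg.Agent.RuRec12

open Cfsg.Agent.CosetEnum Cfsg.Agent.SporB.Ru

/-- The vector of a point. -/
noncomputable def vat (x : ℕ) : ℕ := vtab.get 52 x

/-- Inverse word of letters. -/
def iW' (W : List ℕ) : List ℕ := (W.map linv).reverse

/-- A signed generator as a word. -/
noncomputable def sgW (i : ℕ) : List ℕ := bif Nat.blt i 8 then permW.getD i [] else iW' (permW.getD (i - 8) [])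

/-- The product of signed generators as one word. -/
noncomputable def backWord (L : List ℕ) : List ℕ := L.flatMap sgW

theorem gen_ok : allRange (fun i =>
    inS [4, 6, 8, 10, 12, 14] (permW.getD i []) && (rootW.getD i []).all (fun r => Nat.blt r 48) &&
      allRange (fun x => Nat.beq (Twisted.Tits.appW (rootW.getD i []) (vat x)) (vat (go (permW.getD i []) x))) 0 4060)
    0 8 = true := by
  decide +kernel

theorem back_ok : allRange (fun j =>
    inS [4, 6, 8, 10, 12, 14] (backWord (backW.getD j [])) &&
      (backW.getD j []).all (fun i => Nat.blt i 16) &&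
      agree (backWord (backW.getD j [])) [Nat.add 4 (Nat.mul 2 j)]) 0 2 = true := by
  decide +kernel

theorem vat_small : allRange (fun x => Nat.blt (vat x) 4503599627370496) 0 4060 = true := by
  decide +kernel

theorem vat_base : base.tail.all (fun b => Nat.blt b 4060 &&
    allRange (fun y => bif Nat.beq y b then true else !Nat.beq (vat y) (vat b)) 0 4060) = true := by
  decide +kernel

end Cfsg.Agent.RuRec12
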