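import Cfsg.Agent.RuRec12.Labels

/-!
The labels are right.
-/

set_option autoImplicit false
set_option maxRecDepth 100000

namespace Cfsg.Agent.RuRec12

open Cfsg.Agent.CosetEnum Cfsg.Agent.SporB.Ru

theorem oo_ok : allRange (fun i => ooF.node lap i) 0 4060 = true := by decide +kernel

theorem lo_ok : allRange (fun i => loF.node lap i) 0 4060 = true := by decide +kernel

theorem ko_ok : allRange (fun i => koF.node pap i) 0 4060 = true := by decide +kernel

theorem oo_size : ooF.sized = true := by decide +kernel

theorem lo_size : loF.sized = true := by decide +kernel

theorem ko_size : koF.sized = true := by decide +kernel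

theorem adj_ok : allRange adjPoint 0 4060 = true := by decide +kernel

end Cfsg.Agent.RuRec12
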