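import Cfsg.Agent.RuRec12.Defs

/-!
The tables of special permutations are right.
-/

set_option autoImplicit false
set_option maxRecDepth 100000

namespace Cfsg.Agent.RuRec12

open Cfsg.Agent.CosetEnum Cfsg.Agent.SporB.Ru

theorem pap_ok2 : allRange (fun g => allRange (fun x => papPoint g x) 0 4060) 20 10 = true := by
  decide +kernel

end Cfsg.Agent.RuRec12
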