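import Cfsg.Agent.RuRec12.CheckP0
import Cfsg.Agent.RuRec12.CheckP1
import Cfsg.Agent.RuRec12.CheckP2
import Cfsg.Agent.RuRec12.CheckP3

/-!
All tables of special permutations are right.
-/

set_option autoImplicit false
set_option maxRecDepth 100000

namespace Cfsg.Agent.RuRec12

open Cfsg.Agent.CosetEnum Cfsg.Agent.SporB.Ru

theorem pW_length : pW.length = 38 := by decide +kernel

theorem pap_ok : ∀ g, g < 38 → ∀ x, x < 4060 → papPoint g x = true := by
  intro g hg x hx
  refine allRange_spec (?_ : allRange (fun x => papPoint g x) 0 4060 = true) x (Nat.zero_le _) (by omega)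
  rcases Nat.lt_or_ge g 10 with h0 | h0
  · exact allRange_spec pap_ok0 g (by omega) (by omega)
  rcases Nat.lt_or_ge g 20 with h1 | h1
  · exact allRange_spec pap_ok1 g (by omega) (by omega)
  rcases Nat.lt_or_ge g 30 with h2 | h2
  · exact allRange_spec pap_ok2 g (by omega) (by omega)
  exact allRange_spec pap_ok3 g (by omega) (by omega)

end Cfsg.Agent.RuRec12
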