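import Cfsg.Agent.RuRec12.Defs
import Cfsg.Agent.SporB.Ru.Graph
import Cfsg.Agent.SporB.Ru.Data.Adj

/-!
Checks on the special elements.
-/

set_option autoImplicit false
set_option maxRecDepth 100000

namespace Cfsg.Agent.RuRec12

open Cfsg.Agent.CosetEnum Cfsg.Agent.SporB.Ru

/-- A power word. -/
def rep' (W : List ℕ) : ℕ → List ℕ
  | 0 => []
  | k + 1 => W ++ rep' W k

/-- The inverse word. -/
def iV (W : List ℕ) : List ℕ := (W.map linv).reverse

theorem pW_in : pW.all (fun W => inS [4, 6, 8, 10, 12, 14] W) = true := by decide +kernel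

theorem repW_in : repW.all (fun W => inS [4, 6, 8, 10, 12, 14] W) = true := by decide +kernel

theorem x0_in : inS [4, 6, 8, 10, 12, 14] x0W = true := by decide +kernel

theorem x0_pow : agree (rep' x0W 16) [] = true := by decide +kernel

/-- The fourth power of the element has few fixed points among the neighbours. -/
theorem x0_fix : hits (fun x => adj rows 0 x && Nat.beq (go (rep' x0W 4) x) x) 4060 = 3 := by decide +kernel

theorem u_pow : agree (rep' (pW.getD 0 []) 5) [] = true ∧ agree (rep' (pW.getD 1 []) 5) [] = true ∧
    agree (pW.getD 0 [] ++ pW.getD 1 []) (pW.getD 1 [] ++ pW.getD 0 []) = true := by decide +kernel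

/-- The conjugate of one of the two generators as a product of powers. -/
noncomputable def normPoint (n k : ℕ) : Bool :=
  agree (iV (pW.getD (n + 2) []) ++ pW.getD k [] ++ pW.getD (n + 2) [])
    (rep' (pW.getD 0 []) ((nExps.getD n []).getD (2 * k) 0) ++ rep' (pW.getD 1 []) ((nExps.getD n []).getD (2 * k + 1) 0))

theorem norm_ok : allRange (fun n => normPoint n 0 && normPoint n 1) 0 5 = true := by decide +kernel

/-- The conjugate generators are the words stored. -/
noncomputable def confPoint (r : ℕ) : Bool :=
  agree (iV (repW.getD r []) ++ pW.getD 0 [] ++ repW.getD r []) (pW.getD (7 + 2 * r) []) &&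
    agree (iV (repW.getD r []) ++ pW.getD 1 [] ++ repW.getD r []) (pW.getD (8 + 2 * r) [])

theorem conj_ok : allRange confPoint 0 15 = true := by decide +kernel

/-- The fixed points of the subgroup of order 25. -/
noncomputable def fixPoint (x : ℕ) : Bool :=
  (Nat.beq (pap 0 x) x && Nat.beq (pap 1 x) x) ==
    (Nat.beq x 0 || Nat.beq x 19 || Nat.beq x 916 || Nat.beq x 2376 || Nat.beq x 4012)

theorem fix_ok : allRange fixPoint 0 4060 = true := by decide +kernel

/-- The fixed points of a group inside the stabiliser of the point 19. -/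
noncomputable def goodPoint (x : ℕ) : Bool :=
  (Nat.beq (pap 0 x) x && Nat.beq (pap 1 x) x && Nat.beq (pap 33 x) x && Nat.beq (pap 34 x) x) ==
    (Nat.beq x 0 || Nat.beq x 19)

theorem good_ok : allRange goodPoint 0 4060 = true := by decide +kernel

theorem k_fix : Nat.beq (pap 37 19) 19 = true := by decide +kernel

end Cfsg.Agent.RuRec12
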