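import Cfsg.Agent.SporB.Ru.Basic
import Cfsg.Agent.RuRec12.DataW

/-!
Checkers for forests of point tuples on the 4060 points.
-/

set_option autoImplicit false

namespace Cfsg.Agent.RuRec12

open Cfsg.Agent.CosetEnum Cfsg.Agent.SporB.Ru

/-- The field `j` of a packed tuple. -/
noncomputable def fld (c j : ℕ) : ℕ := Nat.land (Nat.shiftRight c (Nat.mul 12 j)) 4095

/-- A special permutation read from its table. -/
noncomputable def pap (g x : ℕ) : ℕ := ptab.get 16 (Nat.add (Nat.mul g 4096) x)

/-- The table of a special permutation is right at one entry. -/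
noncomputable def papPoint (g x : ℕ) : Bool := Nat.beq (go (pW.getD g []) x) (pap g x)

/-- A forest of tuples with ranked codes. -/
structure Fst where
  n : ℕ
  gens : List ℕ
  roots : List ℕ
  par : PTree
  pts : PTree
  srt : PTree
  rnk : PTree
  pos : PTree

/-- The parent of a node. -/
noncomputable def Fst.up (F : Fst) (i : ℕ) : ℕ := Nat.land (F.par.get 32 i) 65535

/-- The generator leading to a node. -/
noncomputable def Fst.gn (F : Fst) (i : ℕ) : ℕ := Nat.shiftRight (F.par.get 32 i) 16

/-- The tuple of a node. -/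
noncomputable def Fst.at_ (F : Fst) (i : ℕ) : ℕ := F.pts.get 48 i

/-- The check of a node. -/
noncomputable def Fst.node (F : Fst) (i : ℕ) : Bool :=
  allRange (fun j => Nat.blt (fld (F.at_ i) j) 4060) 0 4 &&
    bif Nat.beq (F.gn i) 15 then Nat.blt (F.up i) F.roots.length && Nat.beq (F.at_ i) (F.roots.getD (F.up i) 0)
    else Nat.blt (F.up i) i && Nat.blt (F.gn i) F.gens.length &&
      allRange (fun j => Nat.beq (pap (F.gens.getD (F.gn i) 0) (fld (F.at_ (F.up i)) j)) (fld (F.at_ i) j)) 0 4

/-- A symmetric code of a tuple. -/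
noncomputable def csym (c : ℕ) : ℕ :=
  Nat.add (Nat.add (Nat.add (Nat.mul (fld c 0) (Nat.mul (fld c 0) (fld c 0))) (Nat.mul (fld c 1) (Nat.mul (fld c 1) (fld c 1))))
      (Nat.add (Nat.mul (fld c 2) (Nat.mul (fld c 2) (fld c 2))) (Nat.mul (fld c 3) (Nat.mul (fld c 3) (fld c 3)))))
    (Nat.mul (Nat.add (Nat.add (fld c 0) (fld c 1)) (Nat.add (fld c 2) (fld c 3))) (nat_lit 1099511627776))

/-- The code with the rank of a node. -/
noncomputable def Fst.ranked (F : Fst) (f : ℕ → ℕ) (i : ℕ) : Bool :=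
  Nat.blt (F.rnk.get 16 i) F.n && Nat.beq (F.srt.get 64 (F.rnk.get 16 i)) (f (F.at_ i)) &&
    Nat.beq (F.pos.get 16 (F.rnk.get 16 i)) i &&
    (Nat.beq i 0 || Nat.blt (F.srt.get 64 (Nat.sub i 1)) (F.srt.get 64 i))

/-- The whole check of a node. -/
noncomputable def Fst.full (F : Fst) (f : ℕ → ℕ) (i : ℕ) : Bool := F.node i && F.ranked f i

/-- Labelled points. -/
structure Labs where
  gens : List ℕ
  roots : List ℕ
  sizes : List ℕ
  lab : PTree
  idx : PTree
  par : PTree
  pts : PTree

/-- The label of a point. -/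
noncomputable def Labs.get (F : Labs) (x : ℕ) : ℕ := F.lab.get 16 x

/-- The point of a node. -/
noncomputable def Labs.at_ (F : Labs) (i : ℕ) : ℕ := F.pts.get 48 i

/-- The check of a node and a point with a given reading of generators. -/
noncomputable def Labs.node (F : Labs) (ap : ℕ → ℕ → ℕ) (i : ℕ) : Bool :=
  Nat.blt (F.at_ i) 4060 && Nat.blt (F.get (F.at_ i)) F.roots.length &&
    (bif Nat.beq (Nat.shiftRight (F.par.get 32 i) 16) 15 then
      Nat.beq (F.at_ i) (F.roots.getD (F.get (F.at_ i)) 0)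
    else Nat.blt (Nat.land (F.par.get 32 i) 65535) i &&
      Nat.blt (Nat.shiftRight (F.par.get 32 i) 16) F.gens.length &&
      Nat.beq (ap (F.gens.getD (Nat.shiftRight (F.par.get 32 i) 16) 0) (F.at_ (Nat.land (F.par.get 32 i) 65535))) (F.at_ i) &&
      Nat.beq (F.get (F.at_ (Nat.land (F.par.get 32 i) 65535))) (F.get (F.at_ i))) &&
    Nat.blt (F.idx.get 16 i) 4060 && Nat.beq (F.at_ (F.idx.get 16 i)) i

/-- Count the hits below a bound. -/
noncomputable def hits (f : ℕ → Bool) (n : ℕ) : ℕ :=
  Nat.rec (motive := fun _ => ℕ) 0 (fun k ih => forceNat ih fun a => bif f k then Nat.succ a else a) n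

/-- The sizes are right. -/
noncomputable def Labs.sized (F : Labs) : Bool :=
  allRange (fun c => Nat.beq (hits (fun x => Nat.beq (F.get x) c) 4060) (F.sizes.getD c 0)) 0 F.roots.length

end Cfsg.Agent.RuRec12
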