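import Cfsg.Agent.RuRec12.DataS
import Cfsg.Agent.RuRec12.DataN
import Cfsg.Agent.RuRec12.DataB
import Cfsg.Agent.RuRec12.Defs

/-!
The forests.
-/

set_option autoImplicit false
set_option maxRecDepth 100000

namespace Cfsg.Agent.RuRec12

open Cfsg.Agent.CosetEnum Cfsg.Agent.SporB.Ru

/-- A forest. -/
def sylF : Fst := ⟨14976, sylGens, sylRoots, sylPar, sylPts, sylSrt, sylRnk, sylPos⟩

/-- A forest. -/
def nPF : Fst := ⟨2400, nPGens, nPRoots, nPPar, nPPts, nPSrt, nPRnk, nPPos⟩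

/-- A forest. -/
def uvF : Fst := ⟨25, uvGens, uvRoots, uvPar, uvPts, uvSrt, uvRnk, uvPos⟩

/-- A forest. -/
def hPF : Fst := ⟨7800, hPGens, hPRoots, hPPar, hPPts, hPSrt, hPRnk, hPPos⟩

/-- A forest. -/
def badF0 : Fst := ⟨157, bad0Gens, bad0Roots, bad0Par, bad0Pts, bad0Srt, bad0Rnk, bad0Pos⟩

/-- A forest. -/
def badF1 : Fst := ⟨157, bad1Gens, bad1Roots, bad1Par, bad1Pts, bad1Srt, bad1Rnk, bad1Pos⟩

/-- A forest. -/
def badF2 : Fst := ⟨157, bad2Gens, bad2Roots, bad2Par, bad2Pts, bad2Srt, bad2Rnk, bad2Pos⟩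

/-- A forest. -/
def badF3 : Fst := ⟨157, bad3Gens, bad3Roots, bad3Par, bad3Pts, bad3Srt, bad3Rnk, bad3Pos⟩

/-- A forest. -/
def badF4 : Fst := ⟨157, bad4Gens, bad4Roots, bad4Par, bad4Pts, bad4Srt, bad4Rnk, bad4Pos⟩

/-- A forest. -/
def badF5 : Fst := ⟨157, bad5Gens, bad5Roots, bad5Par, bad5Pts, bad5Srt, bad5Rnk, bad5Pos⟩

/-- A forest. -/
def badF6 : Fst := ⟨157, bad6Gens, bad6Roots, bad6Par, bad6Pts, bad6Srt, bad6Rnk, bad6Pos⟩

/-- A forest. -/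
def badF7 : Fst := ⟨157, bad7Gens, bad7Roots, bad7Par, bad7Pts, bad7Srt, bad7Rnk, bad7Pos⟩

/-- A forest. -/
def badF8 : Fst := ⟨157, bad8Gens, bad8Roots, bad8Par, bad8Pts, bad8Srt, bad8Rnk, bad8Pos⟩

/-- A forest. -/
def badF9 : Fst := ⟨157, bad9Gens, bad9Roots, bad9Par, bad9Pts, bad9Srt, bad9Rnk, bad9Pos⟩

/-- A forest. -/
def badF10 : Fst := ⟨157, bad10Gens, bad10Roots, bad10Par, bad10Pts, bad10Srt, bad10Rnk, bad10Pos⟩

/-- A forest. -/
def badF11 : Fst := ⟨157, bad11Gens, bad11Roots, bad11Par, bad11Pts, bad11Srt, bad11Rnk, bad11Pos⟩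

/-- A forest. -/
def badF12 : Fst := ⟨157, bad12Gens, bad12Roots, bad12Par, bad12Pts, bad12Srt, bad12Rnk, bad12Pos⟩

/-- A forest. -/
def badF14 : Fst := ⟨157, bad14Gens, bad14Roots, bad14Par, bad14Pts, bad14Srt, bad14Rnk, bad14Pos⟩

/-- The code of an ordered tuple. -/
noncomputable def cord (c : ℕ) : ℕ :=
  Nat.add (fld c 0) (Nat.mul 4096 (Nat.add (fld c 1) (Nat.mul 4096 (Nat.add (fld c 2) (Nat.mul 4096 (fld c 3))))))

/-- The forests showing many conjugates. -/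
def badFs : List Fst := [badF0, badF1, badF2, badF3, badF4, badF5, badF6, badF7, badF8, badF9, badF10, badF11, badF12, uvF, badF14]

end Cfsg.Agent.RuRec12
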