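import Cfsg.Agent.RuRec12.Base
import Cfsg.Agent.RuRec12.CheckI
import Cfsg.Agent.Twisted.Tits.Bits
import Cfsg.Agent.S1068

/-!
The twisted group over two elements is the stabiliser of a point.
-/

set_option autoImplicit false
set_option maxRecDepth 100000

namespace Cfsg.Agent.RuRec12

open Cfsg.Agent.CosetEnum Cfsg.Agent.SporB.Ru Cfsg.Lie
open scoped Matrix

/-- The twisted group. -/
noncomputable abbrev TF : Subgroup (GL chevF4.Idx (ZMod 2)) := twistedF4 (ZMod 2) 1

/-- The vector of a point. -/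
noncomputable def Vp (x : Pt) : chevF4.Idx → ZMod 2 := Twisted.Tits.toVec (vat x)

/-- The graph of the isomorphism. -/
noncomputable def graphG : Subgroup (GL chevF4.Idx (ZMod 2) × Equiv.Perm Pt) where
  carrier := {z | z.1 ∈ TF ∧ z.2 ∈ S0 ∧ ∀ x : Pt, (z.1 : Matrix chevF4.Idx chevF4.Idx (ZMod 2)) *ᵥ Vp x = Vp (z.2 x)}
  one_mem' := ⟨one_mem _, one_mem _, fun x => by simp⟩
  mul_mem' := fun {a b} ha hb => ⟨mul_mem ha.1 hb.1, mul_mem ha.2.1 hb.2.1, fun x => by
    rw [Prod.fst_mul, Units.val_mul, ← Matrix.mulVec_mulVec, hb.2.2, ha.2.2]; rfl⟩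
  inv_mem' := fun {a} ha => ⟨inv_mem ha.1, inv_mem ha.2.1, fun x => by
    have h := ha.2.2 (a.2⁻¹ x)
    rw [Equiv.Perm.coe_inv, Equiv.apply_symm_apply] at h
    rw [Prod.fst_inv, Prod.snd_inv, Equiv.Perm.coe_inv, ← h, Matrix.mulVec_mulVec, ← Units.val_mul,
      inv_mul_cancel, Units.val_one, Matrix.one_mulVec]⟩

theorem toVec_inj {m n : ℕ} (hm : m < 2 ^ 52) (hn : n < 2 ^ 52)
    (h : Twisted.Tits.toVec m = Twisted.Tits.toVec n) : m = n := by
  refine Nat.eq_of_testBit_eq fun i => ?_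
  by_cases hi : i < 52
  · obtain ⟨b, rfl⟩ := ChevCore.exists_code_eq chevF4 (show i < chevF4.nroots + chevF4.rank from hi)
    have := congrFun h b
    simp only [Twisted.Tits.toVec] at this
    revert this
    cases m.testBit (ChevCore.code chevF4 b) <;> cases n.testBit (ChevCore.code chevF4 b) <;> simp
  · rw [Nat.testBit_lt_two_pow (hm.trans_le (Nat.pow_le_pow_right (by norm_num) (not_lt.1 hi))),
      Nat.testBit_lt_two_pow (hn.trans_le (Nat.pow_le_pow_right (by norm_num) (not_lt.1 hi)))]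

theorem vat_lt (x : Pt) : vat x < 2 ^ 52 :=
  lt_of_lt_of_eq (Nat.le_of_ble_eq_true (allRange_spec vat_small x (Nat.zero_le _) (by omega))) (by norm_num)

theorem graph_fst_inj {z : GL chevF4.Idx (ZMod 2) × Equiv.Perm Pt} (hz : z ∈ graphG) (h : z.1 = 1) : z.2 = 1 := by
  refine faithful_H _ (g00 hz.2.1) fun b hb i hi => ?_
  by_cases hb0 : b = 0
  · rw [show i = (0 : Pt) from Fin.ext (hi.trans hb0)]
    exact fix_zero hz.2.1
  have hbt : b ∈ base.tail := by
    have e : base = 0 :: base.tail := rfl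
    rw [e, List.mem_cons] at hb
    exact hb.resolve_left hb0
  have hh := List.all_eq_true.1 vat_base b hbt
  rw [Bool.and_eq_true] at hh
  have h2 := hz.2.2 i
  rw [h, Units.val_one, Matrix.one_mulVec] at h2
  have e := toVec_inj (vat_lt i) (vat_lt (z.2 i)) h2
  refine Fin.ext ?_
  by_contra hne
  have h3 := allRange_spec hh.2 (z.2 i : Pt) (Nat.zero_le _) (by omega)
  rw [show Nat.beq (z.2 i : Pt) b = false from Bool.eq_false_iff.2 fun hq =>
    hne ((Nat.eq_of_beq_eq_true hq).trans hi.symm), cond_false, ← e, hi] at h3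
  simp at h3

theorem x_zero (r : ℕ) : chevF4.x (ZMod 2) r 0 = 1 := ChevCore.goodF4.x_zero' r

/-- The matrix of a word of roots. -/
noncomputable def rm (w : List ℕ) : Matrix chevF4.Idx chevF4.Idx (ZMod 2) :=
  chevF4.wordMat (ZMod 2) (w.map fun r => (r, 1))

theorem gen_cases {w : List (ℕ × ZMod 2)} (hw : w ∈ f4Words (ZMod 2) 1) :
    chevF4.wordMat (ZMod 2) w = 1 ∨ ∃ i < 8, chevF4.wordMat (ZMod 2) w = rm (rootW.getD i []) := by
  have h2 : ∀ t : ZMod 2, t = 0 ∨ t = 1 := by decide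
  have h11 : (1 : ZMod 2) + 1 = 0 := by decide
  rcases hw with ⟨t, h | h⟩ | ⟨t, u, h | h⟩ <;> subst h
  · rcases h2 t with rfl | rfl
    · exact Or.inl (by simp [f4PairWord, ChevalleyDatum.wordMat, x_zero])
    · exact Or.inr ⟨0, by norm_num, by simp [rm, rootW, f4PairWord, f4p1, f4p4, ChevalleyDatum.wordMat]⟩
  · rcases h2 t with rfl | rfl
    · exact Or.inl (by simp [f4PairWord, ChevalleyDatum.wordMat, x_zero])
    · exact Or.inr ⟨1, by norm_num, by simp [rm, rootW, f4PairWord, f4m1, f4m4, ChevalleyDatum.wordMat]⟩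
  · rcases h2 t with rfl | rfl <;> rcases h2 u with rfl | rfl
    · exact Or.inl (by simp [b2ClassWord, ChevalleyDatum.wordMat, x_zero])
    · exact Or.inr ⟨3, by norm_num, by simp [rm, rootW, b2ClassWord, f4a, f4b, f4ab, f4aab, ChevalleyDatum.wordMat, x_zero]⟩
    · exact Or.inr ⟨2, by norm_num, by simp [rm, rootW, b2ClassWord, f4a, f4b, f4ab, f4aab, ChevalleyDatum.wordMat, x_zero]⟩
    · exact Or.inr ⟨4, by norm_num, by simp [rm, rootW, b2ClassWord, f4a, f4b, f4ab, f4aab, ChevalleyDatum.wordMat, x_zero, h11]⟩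
  · rcases h2 t with rfl | rfl <;> rcases h2 u with rfl | rfl
    · exact Or.inl (by simp [b2ClassWord, ChevalleyDatum.wordMat, x_zero])
    · exact Or.inr ⟨6, by norm_num, by simp [rm, rootW, b2ClassWord, f4ma, f4mb, f4mab, f4maab, ChevalleyDatum.wordMat, x_zero]⟩
    · exact Or.inr ⟨5, by norm_num, by simp [rm, rootW, b2ClassWord, f4ma, f4mb, f4mab, f4maab, ChevalleyDatum.wordMat, x_zero]⟩
    · exact Or.inr ⟨7, by norm_num, by simp [rm, rootW, b2ClassWord, f4ma, f4mb, f4mab, f4maab, ChevalleyDatum.wordMat, x_zero, h11]⟩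

theorem gen_in_graph {g : GL chevF4.Idx (ZMod 2)} (hg : g ∈ TF) {i : ℕ} (hi : i < 8)
    (hm : (g : Matrix chevF4.Idx chevF4.Idx (ZMod 2)) = rm (rootW.getD i [])) :
    (g, pr (permW.getD i [])) ∈ graphG := by
  have h := allRange_spec gen_ok i (Nat.zero_le _) (by omega)
  simp only [Bool.and_eq_true, List.all_eq_true] at h
  refine ⟨hg, pr_mem h.1.1, fun x => ?_⟩
  have e := Nat.eq_of_beq_eq_true (allRange_spec h.2 x (Nat.zero_le _) (by omega))
  rw [Vp, Vp, pr_apply (inS_lt h.1.1), ← e, hm, rm,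
    Twisted.Tits.appW_spec _ (fun r hr => Nat.le_of_ble_eq_true (h.1.2 r hr))]

theorem fst_le : graphG.map (MonoidHom.fst _ _) = TF := by
  refine le_antisymm ?_ ?_
  · rintro _ ⟨z, hz, rfl⟩; exact hz.1
  · refine (Subgroup.closure_le _).2 ?_
    rintro g ⟨w, hw, hgm⟩
    have hg : g ∈ TF := Subgroup.subset_closure ⟨w, hw, hgm⟩
    rcases gen_cases hw with h | ⟨i, hi, h⟩
    · have : g = 1 := Units.ext (hgm.trans (h.trans Units.val_one.symm))
      rw [this]; exact one_mem _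
    · exact ⟨(g, _), gen_in_graph hg hi (hgm.trans h), rfl⟩

theorem root_mat_mem {i : ℕ} (hi : i < 8) : ∃ g ∈ TF, (g : Matrix chevF4.Idx chevF4.Idx (ZMod 2)) = rm (rootW.getD i []) := by
  have key : ∀ w ∈ f4Words (ZMod 2) 1, ∃ g ∈ TF, (g : Matrix chevF4.Idx chevF4.Idx (ZMod 2)) = chevF4.wordMat (ZMod 2) w := by
    intro w hw
    have hu : IsUnit (chevF4.wordMat (ZMod 2) w) :=
      List.prod_isUnit fun m hm => by
        obtain ⟨p, -, rfl⟩ := List.mem_map.1 hm
        exact ChevCore.goodF4.isUnit_x p.1 p.2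
    exact ⟨hu.unit, Subgroup.subset_closure ⟨w, hw, hu.unit_spec⟩, hu.unit_spec⟩
  have h11 : (1 : ZMod 2) + 1 = 0 := by decide
  have hp : ∀ w, (∃ t : ZMod 2, w = f4PairWord 1 f4p1 f4p4 t ∨ w = f4PairWord 1 f4m1 f4m4 t) →
      w ∈ f4Words (ZMod 2) 1 := fun w h => Or.inl h
  have hb : ∀ w, (∃ t u : ZMod 2, w = b2ClassWord 1 f4a f4b f4ab f4aab t u ∨ w = b2ClassWord 1 f4ma f4mb f4mab f4maab t u) →
      w ∈ f4Words (ZMod 2) 1 := fun w h => Or.inr h
  interval_cases i
  · obtain ⟨g, hg, e⟩ := key _ (hp _ ⟨1, Or.inl rfl⟩)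
    exact ⟨g, hg, e.trans (by simp [rm, rootW, f4PairWord, f4p1, f4p4, ChevalleyDatum.wordMat])⟩
  · obtain ⟨g, hg, e⟩ := key _ (hp _ ⟨1, Or.inr rfl⟩)
    exact ⟨g, hg, e.trans (by simp [rm, rootW, f4PairWord, f4m1, f4m4, ChevalleyDatum.wordMat])⟩
  · obtain ⟨g, hg, e⟩ := key _ (hb _ ⟨1, 0, Or.inl rfl⟩)
    exact ⟨g, hg, e.trans (by simp [rm, rootW, b2ClassWord, f4a, f4b, f4ab, f4aab, ChevalleyDatum.wordMat, x_zero])⟩
  · obtain ⟨g, hg, e⟩ := key _ (hb _ ⟨0, 1, Or.inl rfl⟩)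
    exact ⟨g, hg, e.trans (by simp [rm, rootW, b2ClassWord, f4a, f4b, f4ab, f4aab, ChevalleyDatum.wordMat, x_zero])⟩
  · obtain ⟨g, hg, e⟩ := key _ (hb _ ⟨1, 1, Or.inl rfl⟩)
    exact ⟨g, hg, e.trans (by simp [rm, rootW, b2ClassWord, f4a, f4b, f4ab, f4aab, ChevalleyDatum.wordMat, x_zero, h11])⟩
  · obtain ⟨g, hg, e⟩ := key _ (hb _ ⟨1, 0, Or.inr rfl⟩)
    exact ⟨g, hg, e.trans (by simp [rm, rootW, b2ClassWord, f4ma, f4mb, f4mab, f4maab, ChevalleyDatum.wordMat, x_zero])⟩
  · obtain ⟨g, hg, e⟩ := key _ (hb _ ⟨0, 1, Or.inr rfl⟩)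
    exact ⟨g, hg, e.trans (by simp [rm, rootW, b2ClassWord, f4ma, f4mb, f4mab, f4maab, ChevalleyDatum.wordMat, x_zero])⟩
  · obtain ⟨g, hg, e⟩ := key _ (hb _ ⟨1, 1, Or.inr rfl⟩)
    exact ⟨g, hg, e.trans (by simp [rm, rootW, b2ClassWord, f4ma, f4mb, f4mab, f4maab, ChevalleyDatum.wordMat, x_zero, h11])⟩

theorem snd_eq : graphG.map (MonoidHom.snd _ _) = S0 := by
  refine le_antisymm ?_ ?_
  · rintro _ ⟨z, hz, rfl⟩; exact hz.2.1
  have gen : ∀ i < 8, pr (permW.getD i []) ∈ graphG.map (MonoidHom.snd _ _) := fun i hi => by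
    obtain ⟨g, hg, e⟩ := root_mat_mem hi
    exact ⟨(g, _), gen_in_graph hg hi e, rfl⟩
  have word : ∀ L : List ℕ, (∀ i ∈ L, i < 16) → pr (backWord L) ∈ graphG.map (MonoidHom.snd _ _) := by
    intro L
    induction L with
    | nil => intro _; rw [show backWord [] = [] from rfl, pr_nil]; exact one_mem _
    | cons i L ih =>
      intro h
      rw [show backWord (i :: L) = sgW i ++ backWord L from rfl, pr_append]
      refine mul_mem (ih fun j hj => h j (List.mem_cons_of_mem _ hj)) ?_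
      have hi := h i List.mem_cons_self
      rcases Nat.lt_or_ge i 8 with h8 | h8
      · rw [sgW, show Nat.blt i 8 = true from Nat.ble_eq_true_of_le h8, cond_true]
        exact gen i h8
      · rw [sgW, show Nat.blt i 8 = false from Bool.eq_false_iff.2 fun hb =>
          absurd (Nat.le_of_ble_eq_true hb) (by omega), cond_false]
        have hh := allRange_spec gen_ok (i - 8) (Nat.zero_le _) (by omega)
        simp only [Bool.and_eq_true] at hh
        rw [show iW' (permW.getD (i - 8) []) = iW (permW.getD (i - 8) []) from rfl, pr_iW (inS_lt hh.1.1)]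
        exact inv_mem (gen _ (by omega))
  refine sg_le fun l hl => ?_
  have hj : ∀ j < 2, v (4 + 2 * j) ∈ graphG.map (MonoidHom.snd _ _) := by
    intro j hj
    have h := allRange_spec back_ok j (Nat.zero_le _) (by omega)
    simp only [Bool.and_eq_true, List.all_eq_true] at h
    have e := pr_eq (B := [Nat.add 4 (Nat.mul 2 j)]) h.1.1 (by interval_cases j <;> decide) h.2
    have hm := word _ (fun i hi => Nat.le_of_ble_eq_true (h.1.2 i hi))
    rw [e, pr] at hm
    have := inv_mem hm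
    rw [inv_inv] at this
    simpa [evalWord, v] using this
  rcases list_cases2 hl with rfl | rfl
  · exact hj 0 (by norm_num)
  · exact hj 1 (by norm_num)

theorem card_TF : Nat.card TF = 35942400 := by
  have h := @Cfsg.Agent.S1068.result (ZMod 2) _ _ 0 (ZMod.card 2)
  simpa using h

theorem nonempty_iso : Nonempty (TF ≃* S0) := by
  let p1 : graphG →* TF := ((MonoidHom.fst _ _).comp graphG.subtype).codRestrict TF fun z => z.2.1
  let p2 : graphG →* S0 := ((MonoidHom.snd _ _).comp graphG.subtype).codRestrict S0 fun z => z.2.2.1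
  have h1 : Function.Bijective p1 := by
    constructor
    · refine (injective_iff_map_eq_one p1).2 fun z hz => ?_
      have e : (z : GL chevF4.Idx (ZMod 2) × Equiv.Perm Pt).1 = 1 := congrArg Subtype.val hz
      exact Subtype.ext (Prod.ext e (graph_fst_inj z.2 e))
    · intro g
      obtain ⟨z, hz, hzg⟩ : (g : GL chevF4.Idx (ZMod 2)) ∈ graphG.map (MonoidHom.fst _ _) := by
        rw [fst_le]; exact g.2
      exact ⟨⟨z, hz⟩, Subtype.ext hzg⟩
  have h2 : Function.Surjective p2 := by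
    intro g
    obtain ⟨z, hz, hzg⟩ : (g : Equiv.Perm Pt) ∈ graphG.map (MonoidHom.snd _ _) := by
      rw [snd_eq]; exact g.2
    exact ⟨⟨z, hz⟩, Subtype.ext hzg⟩
  let e1 := MulEquiv.ofBijective p1 h1
  have hc : Nat.card graphG = Nat.card S0 := by
    rw [Nat.card_congr e1.toEquiv, card_TF, card_g1]
  haveI : Finite graphG := Nat.finite_of_card_ne_zero (by rw [hc]; exact Nat.card_pos.ne')
  have h3 : Function.Bijective p2 := (Nat.bijective_iff_surjective_and_card p2).2 ⟨h2, hc⟩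
  exact ⟨e1.symm.trans (MulEquiv.ofBijective p2 h3)⟩

end Cfsg.Agent.RuRec12
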