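import Cfsg.Agent.RuRec12.Defs
import Cfsg.Agent.RuRec12.DataL
import Cfsg.Agent.SporB.Ru.Graph
import Cfsg.Agent.SporB.Ru.Data.Adj

/-!
The orbits of the point stabiliser and of two of its point stabilisers.
-/

set_option autoImplicit false
set_option maxRecDepth 100000

namespace Cfsg.Agent.RuRec12

open Cfsg.Agent.CosetEnum Cfsg.Agent.SporB.Ru

/-- The action of a letter. -/
noncomputable def lap (g x : ℕ) : ℕ := act x g

/-- Orbits of the stabiliser of a point. -/
def ooF : Labs := ⟨[4, 6], ooRoots, ooSizes, ooLab, ooIdx, ooPar, ooPts⟩

/-- Orbits of the stabiliser of two adjacent points. -/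
def loF : Labs := ⟨[8, 10], loRoots, loSizes, loLab, loIdx, loPar, loPts⟩

/-- Orbits of the stabiliser of two non-adjacent points. -/
def koF : Labs := ⟨koGens, koRoots, koSizes, koLab, koIdx, koPar, koPts⟩

/-- The neighbours of the point 1126 by class. -/
def loAdj : List Bool := [true, true, false, true, true, false, true, false]

/-- The neighbours of the point 19 by class. -/
def koAdj : List Bool := [false, false, true, false, true, false, false, false, false]

/-- The neighbours of the three points by class. -/
noncomputable def adjPoint (x : ℕ) : Bool :=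
  (adj rows 0 x == Nat.beq (ooF.get x) 1) && (adj rows 1126 x == loAdj.getD (loF.get x) false) &&
    (adj rows 19 x == koAdj.getD (koF.get x) false)

end Cfsg.Agent.RuRec12
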