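import Cfsg.Agent.RuRec12.Match
import Cfsg.Agent.RuRec12.Iso
import Cfsg.Agent.RuLattice.AutGraph
import Cfsg.Agent.RuLattice.Iso

/-!
A transitive group on 4060 points with point stabiliser the twisted group of type F₄ over two
elements and suborbits of sizes 1755 and 2304 is the Rudvalis group.
-/

set_option autoImplicit false

namespace Cfsg.Agent.RuRec12

open Cfsg.Agent.CosetEnum Cfsg.Agent.SporB.Ru

theorem recognise {Ω : Type*} [Finite Ω] (G : Subgroup (Equiv.Perm Ω))
    [MulAction.IsPretransitive G Ω] (a b c : Ω) (hΩ : Nat.card Ω = 4060)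
    (e : MulAction.stabilizer G a ≃* HH)
    (hb : (MulAction.orbit (MulAction.stabilizer G a) b).ncard = 1755)
    (hc : (MulAction.orbit (MulAction.stabilizer G a) c).ncard = 2304) :
    Nonempty (G ≃* sg [0, 2]) := by
  let ρ : HH →* Equiv.Perm Ω :=
    (G.subtype.comp (MulAction.stabilizer G a).subtype).comp e.symm.toMonoidHom
  have horb : ∀ w : Ω, {v | ∃ h : HH, ρ h w = v} = MulAction.orbit (MulAction.stabilizer G a) w := by
    intro w
    ext v
    constructor
    · rintro ⟨h, rfl⟩; exact ⟨e.symm h, rfl⟩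
    · rintro ⟨g, rfl⟩
      refine ⟨e g, ?_⟩
      show ((e.symm (e g) : MulAction.stabilizer G a) : G).1 w = _
      rw [e.symm_apply_apply]
      rfl
  let S : Setting G a b c :=
    { ρ := ρ
      inj := by
        intro g h hgh
        exact e.symm.injective (Subtype.ext (Subtype.ext hgh))
      mem := fun g => by
        constructor
        · rintro ⟨h, rfl⟩
          exact ⟨(e.symm h : G).2, (e.symm h).2⟩
        · rintro ⟨hg, hga⟩
          refine ⟨e ⟨⟨g, hg⟩, hga⟩, ?_⟩
          show ((e.symm (e ⟨⟨g, hg⟩, hga⟩) : MulAction.stabilizer G a) : G).1 = g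
          rw [e.symm_apply_apply]
      trans := fun u => by
        obtain ⟨g, hg⟩ := MulAction.exists_smul_eq G a u
        exact ⟨g, g.2, hg⟩
      card := hΩ
      orbB := by rw [horb, hb]
      orbC := by rw [horb, hc] }
  obtain ⟨ψ, hψ⟩ := S.exists_iso
  have hGc : Nat.card G = 145926144000 := by
    have h := (MulAction.stabilizer G a).index_mul_card
    rw [MulAction.index_stabilizer, Nat.card_congr e.toEquiv, card_HH,
      MulAction.orbit_eq_univ, Set.ncard_univ, hΩ] at h
    omega
  let conjψ : Equiv.Perm Ω ≃* Equiv.Perm Pt := Equiv.permCongrHom ψ.symm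
  have hmem : ∀ g : G, conjψ g ∈ autG rows := by
    intro g p q
    have hp : ∀ r : Pt, ψ (conjψ g r) = (g : Equiv.Perm Ω) (ψ r) := fun r => by
      simp [conjψ, Equiv.permCongrHom, Equiv.permCongr_apply]
    rw [Bool.eq_iff_iff, ← hψ, ← hψ, hp, hp, S.R_smul g.2]
  let f : G →* autG rows := MonoidHom.codRestrict (conjψ.toMonoidHom.comp G.subtype) (autG rows) hmem
  have hf : Function.Injective f := fun g h e' =>
    Subtype.ext (conjψ.injective (congrArg Subtype.val e'))
  have hbij : Function.Bijective f := (Nat.bijective_iff_injective_and_card f).2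
    ⟨hf, by rw [hGc, RuLattice.autG_eq, g0_step.1]⟩
  exact ⟨(MulEquiv.ofBijective f hbij).trans (MulEquiv.subgroupCongr RuLattice.autG_eq)⟩

theorem recognise_ru {Ω : Type*} [Finite Ω] (G : Subgroup (Equiv.Perm Ω))
    [MulAction.IsPretransitive G Ω] (a b c : Ω) (hΩ : Nat.card Ω = 4060)
    (e : MulAction.stabilizer G a ≃* TF)
    (hb : (MulAction.orbit (MulAction.stabilizer G a) b).ncard = 1755)
    (hc : (MulAction.orbit (MulAction.stabilizer G a) c).ncard = 2304) :
    Cfsg.Spor.IsoRu G := by
  obtain ⟨f⟩ := nonempty_iso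
  obtain ⟨g⟩ := recognise G a b c hΩ (e.trans f) hb hc
  obtain ⟨r⟩ := RuLattice.nonempty_ruEquiv
  exact ⟨g.trans r.symm⟩

end Cfsg.Agent.RuRec12
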