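import Cfsg.Agent.RuRec12.Orbits
import Cfsg.Agent.RuRec12.CheckF
import Cfsg.Agent.SuzRec12.Abstract
import Mathlib.NumberTheory.Divisors

/-!
A subgroup of index 2304 of the stabiliser fixes a point not adjacent to the first one.
-/

set_option autoImplicit false
set_option maxRecDepth 100000

namespace Cfsg.Agent.RuRec12

open Cfsg.Agent.CosetEnum Cfsg.Agent.SporB.Ru MulAction
open Cfsg.Agent.SuzRec12 (exists_conj_le)

theorem lift_spg {L : List ℕ} (T : Subgroup HH) (h : ∀ g ∈ L, ∃ t ∈ T, (t : Equiv.Perm Pt) = sp g)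
    {g : Equiv.Perm Pt} (hg : g ∈ spg L) : ∃ t ∈ T, (t : Equiv.Perm Pt) = g := by
  have hle : spg L ≤ T.map S0.subtype := by
    refine (Subgroup.closure_le _).2 fun _ hm => ?_
    obtain ⟨x, hx, rfl⟩ := List.mem_map.1 hm
    obtain ⟨t, ht, e⟩ := h x hx
    exact ⟨t, ht, e⟩
  obtain ⟨t, ht, e⟩ := hle hg
  exact ⟨t, ht, e⟩

theorem fst_elt {F : Fst} {f : ℕ → ℕ} (hgen : ∀ g ∈ F.gens, g < 38)
    (hok : ∀ i < F.n, F.full f i = true) (T : Subgroup HH)
    (hT : ∀ g ∈ F.gens, ∃ t ∈ T, (t : Equiv.Perm Pt) = sp g) (i : Fin F.n) :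
    ∃ k < F.roots.length, ∃ t ∈ T, ∀ j < 4, fld (F.at_ i) j < 4060 ∧
      t • pt? (fld (F.roots.getD k 0) j) = pt? (fld (F.at_ i) j) := by
  obtain ⟨k, hk, g, hg, h⟩ := Fst.node_spec (fun g hg x => pap_eq (hgen g hg) x)
    (fun i hi => (Bool.and_eq_true _ _ ▸ hok i hi : _ ∧ _).1) i i.2
  obtain ⟨t, ht, rfl⟩ := lift_spg T hT hg
  exact ⟨k, hk, t, ht, h⟩

theorem fld_congr {a b : ℕ} (h : ∀ j < 4, fld a j = fld b j) : cord a = cord b ∧ csym a = csym b := by
  simp only [cord, csym, h 0 (by norm_num), h 1 (by norm_num), h 2 (by norm_num), h 3 (by norm_num), and_self]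

/-- Distinct tuples from one root give a lower bound on a group. -/
theorem card_ge {F : Fst} (hgen : ∀ g ∈ F.gens, g < 38) (hok : ∀ i < F.n, F.full cord i = true)
    (T : Subgroup HH) (hT : ∀ g ∈ F.gens, ∃ t ∈ T, (t : Equiv.Perm Pt) = sp g)
    (h1 : F.roots.length = 1) : F.n ≤ Nat.card T := by
  choose k hk t ht h using fst_elt hgen hok T hT
  have := Nat.card_le_card_of_injective (fun i => (⟨t i, ht i⟩ : T)) fun a b e => by
    have e' : t a = t b := congrArg Subtype.val e
    refine Fin.ext (Fst.code_inj (f := cord) (fun i hi => (Bool.and_eq_true _ _ ▸ hok i hi : _ ∧ _).2) a.2 b.2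
      (fld_congr fun j hj => ?_).1)
    obtain ⟨ha1, ha2⟩ := h a j hj
    obtain ⟨hb1, hb2⟩ := h b j hj
    rw [show k a = k b by have := hk a; have := hk b; omega, e', hb2] at ha2
    have := congrArg Fin.val ha2
    rwa [pt?_val hb1, pt?_val ha1, eq_comm] at this
  rwa [Nat.card_fin] at this

/-- The first generator. -/
noncomputable def uH : HH := ⟨sp 0, sp_mem (by norm_num)⟩

/-- The second generator. -/
noncomputable def vH : HH := ⟨sp 1, sp_mem (by norm_num)⟩

/-- A subgroup of order 25. -/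
noncomputable def P25 : Subgroup HH := Subgroup.closure {uH, vH}

theorem uH_mem : uH ∈ P25 := Subgroup.subset_closure (Or.inl rfl)

theorem vH_mem : vH ∈ P25 := Subgroup.subset_closure (Or.inr rfl)

theorem pW_ok {g : ℕ} (hg : g < 38) : inS S6 (pW.getD g []) = true := by
  rw [List.getD_eq_getElem _ _ (by rw [pW_length]; exact hg)]
  exact List.all_eq_true.1 pW_in _ (List.getElem_mem _)

theorem inS_append {S A B : List ℕ} (hA : inS S A = true) (hB : inS S B = true) : inS S (A ++ B) = true := by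
  rw [inS, List.all_append]; exact Bool.and_eq_true _ _ ▸ ⟨hA, hB⟩

theorem five_rel : uH ^ 5 = 1 ∧ vH ^ 5 = 1 ∧ Commute uH vH := by
  refine ⟨Subtype.ext ?_, Subtype.ext ?_, Subtype.ext ?_⟩
  · show pr (pW.getD 0 []) ^ 5 = 1
    rw [← pr_rep, pr_eq (rep_in (pW_ok (by norm_num)) 5) (B := []) rfl u_pow.1, pr_nil]
  · show pr (pW.getD 1 []) ^ 5 = 1
    rw [← pr_rep, pr_eq (rep_in (pW_ok (by norm_num)) 5) (B := []) rfl u_pow.2.1, pr_nil]
  · show pr (pW.getD 0 []) * pr (pW.getD 1 []) = pr (pW.getD 1 []) * pr (pW.getD 0 [])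
    rw [← pr_append, ← pr_append]
    exact (pr_eq (inS_append (pW_ok (by norm_num)) (pW_ok (by norm_num)))
      (inS_append (pW_ok (by norm_num)) (pW_ok (by norm_num))) u_pow.2.2).symm

theorem card_P25 : Nat.card P25 = 25 := by
  obtain ⟨hu, hv, hc⟩ := five_rel
  have hsub : (P25 : Set HH) ⊆ {g | ∃ i j : ℕ, g = uH ^ i * vH ^ j} := by
    refine closure_le_of_closed _ _ ⟨0, 0, by simp⟩ ?_
    rintro _ ⟨i, j, rfl⟩ s (rfl | rfl)
    · refine ⟨i + 1, j, ?_⟩
      rw [mul_assoc, (hc.symm.pow_left j).eq, ← mul_assoc, pow_succ]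
    · exact ⟨i, j + 1, by rw [mul_assoc, ← pow_succ]⟩
  have hle : Nat.card P25 ≤ 25 := by
    let f : Fin 5 × Fin 5 → HH := fun p => uH ^ (p.1 : ℕ) * vH ^ (p.2 : ℕ)
    have hr : (P25 : Set HH) ⊆ Set.range f := by
      intro g hg
      obtain ⟨i, j, rfl⟩ := hsub hg
      exact ⟨(⟨i % 5, Nat.mod_lt _ (by norm_num)⟩, ⟨j % 5, Nat.mod_lt _ (by norm_num)⟩),
        by simp only [f, ← pow_eq_pow_mod _ hu, ← pow_eq_pow_mod _ hv]⟩
    calc Nat.card P25 = (P25 : Set HH).ncard := Nat.card_coe_set_eq _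
      _ ≤ (Set.range f).ncard := Set.ncard_le_ncard hr (Set.toFinite _)
      _ ≤ Nat.card (Fin 5 × Fin 5) := by rw [← Nat.card_coe_set_eq]; exact Finite.card_range_le _
      _ = 25 := by simp
  refine le_antisymm hle (card_ge (F := uvF) (by decide)
    (fun i hi => allRange_spec uvF_ok i (Nat.zero_le _) (by rw [show uvF.n = 25 from rfl] at hi; omega))
    P25 (fun g hg => ?_) rfl)
  rcases list_cases2 (show g ∈ [0, 1] from hg) with rfl | rfl
  exacts [⟨uH, uH_mem, rfl⟩, ⟨vH, vH_mem, rfl⟩]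

theorem isP_P25 : IsPGroup 5 P25 := IsPGroup.of_card (n := 2) (by rw [card_P25]; norm_num)

theorem five_not_dvd : ¬ 5 ∣ P25.index := by
  have h := P25.index_mul_card
  rw [card_P25, card_HH] at h
  omega

instance : Fact (Nat.Prime 5) := ⟨by norm_num⟩

/-- The Sylow subgroup. -/
noncomputable def Ps : Sylow 5 HH := isP_P25.toSylow five_not_dvd

theorem Ps_coe : (Ps : Subgroup HH) = P25 := IsPGroup.toSylow_coe _ _

theorem Ps_set : ((Ps : Sylow 5 HH) : Set HH) = (P25 : Set HH) := congrArg SetLike.coe Ps_coe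

theorem mem_smul_Ps (k x : HH) : x ∈ ((k • Ps : Sylow 5 HH) : Subgroup HH) ↔ k⁻¹ * x * k ∈ P25 := by
  rw [Sylow.coe_subgroup_smul, Subgroup.mem_pointwise_smul_iff_inv_smul_mem, Ps_coe, ← map_inv]
  simp [MulAut.conj_apply]

/-- The points fixed by the subgroup of order 25. -/
def Tset : Finset Pt := {19, 916, 2376, 4012}

theorem beq_iff (a b : ℕ) : Nat.beq a b = true ↔ a = b :=
  ⟨Nat.eq_of_beq_eq_true, fun h => h ▸ Nat.beq_refl _⟩

theorem lit_val : ((19 : Pt) : ℕ) = 19 ∧ ((916 : Pt) : ℕ) = 916 ∧ ((2376 : Pt) : ℕ) = 2376 ∧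
    ((4012 : Pt) : ℕ) = 4012 := by
  refine ⟨?_, ?_, ?_, ?_⟩ <;> rfl

theorem smul_pap {g : HH} {k : ℕ} (hk : k < 38) (hg : (g : Equiv.Perm Pt) = sp k) (x : Pt) :
    g • x = x ↔ pap k x = (x : ℕ) := by
  rw [Subgroup.smul_def, Equiv.Perm.smul_def, hg, pap_eq hk x, ← Fin.ext_iff]

theorem uH_val : (uH : Equiv.Perm Pt) = sp 0 := by rw [uH]

theorem vH_val : (vH : Equiv.Perm Pt) = sp 1 := by rw [vH]

theorem mem_Tset (x : Pt) : x ∈ Tset ↔ x ≠ 0 ∧ uH • x = x ∧ vH • x = x := by
  have h := allRange_spec fix_ok x (Nat.zero_le _) (by rw [Nat.zero_add]; exact x.2)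
  rw [fixPoint, beq_iff_eq, Bool.eq_iff_iff, Bool.and_eq_true, Bool.or_eq_true, Bool.or_eq_true,
    Bool.or_eq_true, Bool.or_eq_true, beq_iff, beq_iff, beq_iff, beq_iff, beq_iff, beq_iff, beq_iff] at h
  rw [smul_pap (by norm_num) uH_val, smul_pap (by norm_num) vH_val, h]
  obtain ⟨v1, v2, v3, v4⟩ := lit_val
  rw [Tset, Finset.mem_insert, Finset.mem_insert, Finset.mem_insert, Finset.mem_singleton, Ne,
    Fin.ext_iff, Fin.ext_iff, Fin.ext_iff, Fin.ext_iff, Fin.ext_iff, v1, v2, v3, v4, Fin.val_zero]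
  omega

theorem P25_fix {g : HH} (hg : g ∈ P25) {x : Pt} (hx : x ∈ Tset) : g • x = x := by
  refine (Subgroup.closure_le (stabilizer HH x)).2 ?_ hg
  rintro _ (rfl | rfl)
  exacts [((mem_Tset x).1 hx).2.1, ((mem_Tset x).1 hx).2.2]

/-- The image of the fixed points. -/
noncomputable def mapT (k : HH) : Finset Pt := Tset.image fun x => k • x

theorem norm_T {n : HH} (hn : n ∈ Subgroup.normalizer (P25 : Set HH)) : mapT n = Tset := by
  refine Finset.eq_of_subset_of_card_le (fun y hy => ?_) ?_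
  · obtain ⟨x, hx, rfl⟩ := Finset.mem_image.1 hy
    have key : ∀ g ∈ P25, g • (n • x) = n • x := by
      intro g hg
      have h : n⁻¹ * g * n ∈ P25 := by
        have := (Subgroup.mem_normalizer_iff.1 (inv_mem hn) g).1 hg
        rwa [inv_inv] at this
      have h' := P25_fix h hx
      rw [mul_smul, mul_smul, inv_smul_eq_iff] at h'
      exact h'
    refine (mem_Tset _).2 ⟨fun h0 => ((mem_Tset x).1 hx).1 ?_, key _ uH_mem, key _ vH_mem⟩
    exact smul_left_cancel n (h0.trans (smul_zero' n).symm)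
  · rw [mapT, Finset.card_image_of_injective _ (MulAction.injective n)]

theorem smul_Ps_eq {k k' : HH} (h : k • Ps = k' • Ps) : mapT k = mapT k' := by
  have h1 : (k⁻¹ * k') • Ps = Ps := by rw [mul_smul, ← h, inv_smul_smul]
  rw [Sylow.smul_eq_iff_mem_normalizer, Ps_set] at h1
  have h2 := norm_T h1
  conv_lhs => rw [mapT, ← h2, mapT, Finset.image_image]
  rw [mapT]
  refine Finset.image_congr fun x _ => ?_
  show k • ((k⁻¹ * k') • x) = k' • x
  rw [smul_smul, mul_inv_cancel_left]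

/-- A code of a set of points. -/
noncomputable def codeS (S : Finset Pt) : ℕ :=
  (∑ x ∈ S, (x : ℕ) * ((x : ℕ) * (x : ℕ))) + (∑ x ∈ S, (x : ℕ)) * 1099511627776

theorem Tset_sum {M : Type*} [AddCommMonoid M] (f : Pt → M) :
    ∑ x ∈ Tset, f x = f 19 + f 916 + (f 2376 + f 4012) := by
  rw [Tset, Finset.sum_insert (by decide), Finset.sum_insert (by decide), Finset.sum_insert (by decide),
    Finset.sum_singleton]
  abel

theorem code_mapT {k : HH} {c : ℕ} (h : ∀ j < 4,
    fld c j < 4060 ∧ k • pt? (([19, 916, 2376, 4012] : List ℕ).getD j 0) = pt? (fld c j)) :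
    codeS (mapT k) = csym c := by
  have hk : ∀ j < 4, ((k • pt? (([19, 916, 2376, 4012] : List ℕ).getD j 0) : Pt) : ℕ) = fld c j :=
    fun j hj => by rw [(h j hj).2, pt?_val (h j hj).1]
  have c1 : pt? 19 = (19 : Pt) := Fin.ext (by rw [pt?_val (by norm_num)]; rfl)
  have c2 : pt? 916 = (916 : Pt) := Fin.ext (by rw [pt?_val (by norm_num)]; rfl)
  have c3 : pt? 2376 = (2376 : Pt) := Fin.ext (by rw [pt?_val (by norm_num)]; rfl)
  have c4 : pt? 4012 = (4012 : Pt) := Fin.ext (by rw [pt?_val (by norm_num)]; rfl)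
  have h0 := hk 0 (by norm_num)
  have h1 := hk 1 (by norm_num)
  have h2 := hk 2 (by norm_num)
  have h3 := hk 3 (by norm_num)
  simp only [List.getD_cons_zero, List.getD_cons_succ, c1, c2, c3, c4] at h0 h1 h2 h3
  rw [codeS, mapT, Finset.sum_image fun a _ b _ e => MulAction.injective k e,
    Finset.sum_image fun a _ b _ e => MulAction.injective k e, Tset_sum, Tset_sum, h0, h1, h2, h3]
  rfl

/-- The representatives of the classes of Sylow subgroups. -/
noncomputable def rho (r : ℕ) : HH :=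
  if h : inS S6 (repW.getD r []) = true then ⟨pr (repW.getD r []), pr_mem h⟩ else 1

theorem rep_ok {r : ℕ} (hr : r < 15) : inS S6 (repW.getD r []) = true := by
  have hl : repW.length = 15 := by decide +kernel
  rw [List.getD_eq_getElem _ _ (by rw [hl]; exact hr)]
  exact List.all_eq_true.1 repW_in _ (List.getElem_mem _)

theorem rho_val {r : ℕ} (hr : r < 15) : (rho r : Equiv.Perm Pt) = pr (repW.getD r []) := by
  rw [rho, dif_pos (rep_ok hr)]

theorem iV_in {W : List ℕ} (h : inS S6 W = true) : inS S6 (iW W) = true := by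
  have hl : ∀ l < 30, linv l < 30 ∧ 2 * (linv l / 2) = 2 * (l / 2) := by decide +kernel
  simp only [inS, List.all_eq_true, Bool.and_eq_true, iW, List.mem_reverse, List.mem_map] at *
  rintro _ ⟨l, hmem, rfl⟩
  obtain ⟨h1, h2⟩ := h l hmem
  obtain ⟨a, b⟩ := hl l (Nat.le_of_ble_eq_true h1)
  exact ⟨Nat.ble_eq_true_of_le a, by rw [b]; exact h2⟩

theorem pr_conj {W U : List ℕ} (hW : inS S6 W = true) :
    pr (iW W ++ U ++ W) = pr W * pr U * (pr W)⁻¹ := by
  rw [pr_append, pr_append, pr_iW (inS_lt hW), mul_assoc]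

theorem conj_sp {r : ℕ} (hr : r < 15) :
    (rho r * uH * (rho r)⁻¹ : HH).1 = sp (7 + 2 * r) ∧ (rho r * vH * (rho r)⁻¹ : HH).1 = sp (8 + 2 * r) := by
  have h := allRange_spec conj_ok r (Nat.zero_le _) (by omega)
  simp only [confPoint, Bool.and_eq_true] at h
  have key : ∀ k b, k < 38 → b < 38 → agree (iV (repW.getD r []) ++ pW.getD k [] ++ repW.getD r []) (pW.getD b []) = true →
      pr (repW.getD r []) * sp k * (pr (repW.getD r []))⁻¹ = sp b := by
    intro k b hk hb ha
    rw [sp, sp, ← pr_conj (rep_ok hr)]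
    exact pr_eq (inS_append (inS_append (iV_in (rep_ok hr)) (pW_ok hk)) (rep_ok hr)) (pW_ok hb) ha
  simp only [Subgroup.coe_mul, Subgroup.coe_inv, rho_val hr]
  exact ⟨key 0 _ (by norm_num) (by omega) h.1, key 1 _ (by norm_num) (by omega) h.2⟩

/-- The normaliser generators. -/
noncomputable def nH (n : ℕ) : HH :=
  if h : n + 2 < 38 then ⟨sp (n + 2), sp_mem h⟩ else 1

theorem nH_mem {n : ℕ} (hn : n < 5) : nH n ∈ Subgroup.normalizer (P25 : Set HH) := by
  have h := allRange_spec norm_ok n (Nat.zero_le _) (by omega)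
  simp only [Bool.and_eq_true, normPoint] at h
  have hv : (nH n : Equiv.Perm Pt) = pr (pW.getD (n + 2) []) := by rw [nH, dif_pos (by omega)]; rfl
  have key : ∀ (k : ℕ) (g : HH) (i j : ℕ), k < 38 → (g : Equiv.Perm Pt) = sp k →
      agree (iV (pW.getD (n + 2) []) ++ pW.getD k [] ++ pW.getD (n + 2) [])
        (rep' (pW.getD 0 []) i ++ rep' (pW.getD 1 []) j) = true → nH n * g * (nH n)⁻¹ ∈ P25 := by
    intro k g i j hk hg ha
    have e : nH n * g * (nH n)⁻¹ = vH ^ j * uH ^ i := by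
      apply Subtype.ext
      simp only [Subgroup.coe_mul, Subgroup.coe_inv, Subgroup.coe_pow, hv, hg]
      show _ = pr (pW.getD 1 []) ^ j * pr (pW.getD 0 []) ^ i
      rw [sp, ← pr_conj (pW_ok (by omega)), ← pr_rep, ← pr_rep, ← pr_append]
      exact pr_eq (inS_append (inS_append (iV_in (pW_ok (by omega))) (pW_ok hk)) (pW_ok (by omega)))
        (inS_append (rep_in (pW_ok (by norm_num)) i) (rep_in (pW_ok (by norm_num)) j)) ha
    rw [e]
    exact mul_mem (pow_mem vH_mem j) (pow_mem uH_mem i)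
  have hsub : P25.map (MulAut.conj (nH n)).toMonoidHom = P25 := by
    refine Subgroup.eq_of_le_of_card_ge ?_ (Subgroup.card_map_of_injective (MulAut.conj (nH n)).injective).ge
    rw [P25, MonoidHom.map_closure, Subgroup.closure_le]
    rintro _ ⟨g, (rfl | rfl), rfl⟩
    · exact key 0 uH _ _ (by norm_num) rfl h.1
    · exact key 1 vH _ _ (by norm_num) rfl h.2
  rw [Subgroup.mem_normalizer_iff]
  intro g
  conv_rhs => rw [← hsub]
  exact (Subgroup.mem_map_iff_mem (MulAut.conj (nH n)).injective).symm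

theorem norm_gens : ∀ g ∈ [2, 3, 4, 5, 6],
    ∃ t ∈ Subgroup.normalizer (P25 : Set HH), (t : Equiv.Perm Pt) = sp g := by
  intro g hg
  have hg' : 2 ≤ g ∧ g < 7 := by revert hg g; decide
  refine ⟨nH (g - 2), nH_mem (by omega), ?_⟩
  rw [nH, dif_pos (by omega)]
  show sp (g - 2 + 2) = sp g
  rw [Nat.sub_add_cancel hg'.1]

theorem card_norm_ge : 2400 ≤ Nat.card (Subgroup.normalizer (P25 : Set HH)) :=
  card_ge (F := nPF) (by decide)
    (fun i hi => allRange_spec nPF_ok i (Nat.zero_le _) (by rw [show nPF.n = 2400 from rfl] at hi; omega))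
    _ norm_gens rfl

/-- A root of the forest of all Sylow subgroups. -/
noncomputable def rootH (k : ℕ) : HH := if k = 0 then 1 else rho (k - 1)

theorem root_spec {k : ℕ} (hk : k < 16) (j : ℕ) (hj : j < 4) :
    rootH k • pt? (([19, 916, 2376, 4012] : List ℕ).getD j 0) = pt? (fld (sylRoots.getD k 0) j) := by
  have h := allRange_spec roots_ok k (Nat.zero_le _) (by omega)
  have e := Nat.eq_of_beq_eq_true (allRange_spec h j (Nat.zero_le _) (by omega))
  rw [e]
  have hp : ([19, 916, 2376, 4012] : List ℕ).getD j 0 < 4060 := by interval_cases j <;> decide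
  refine Fin.ext ?_
  rw [rootH]
  rcases Nat.eq_zero_or_pos k with rfl | hpos
  · rw [if_pos rfl, one_smul]
    show _ = ((pt? (go [] _) : Pt) : ℕ)
    rfl
  · rw [if_neg (by omega), show Nat.beq k 0 = false from Bool.eq_false_iff.2 fun hb =>
      absurd (Nat.eq_of_beq_eq_true hb) (by omega), cond_false]
    have hr : k - 1 < 15 := by omega
    show (((rho (k - 1) : Equiv.Perm Pt) (pt? _) : Pt) : ℕ) = _
    rw [rho_val hr, pr_apply (inS_lt (rep_ok hr)), pt?_val hp, pt?_val]
    rw [← pt?_val hp, ← pr_apply (inS_lt (rep_ok hr))]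
    exact Fin.isLt _

theorem all_sylows : Nat.card (Sylow 5 HH) = 14976 ∧
    ∀ Q : Sylow 5 HH, ∃ n ∈ Subgroup.normalizer (P25 : Set HH), ∃ k < 16, Q = (n * rootH k) • Ps := by
  choose k hk t ht h using fst_elt (F := sylF) (f := csym) (by decide)
    (fun i hi => allRange_spec sylF_ok i (Nat.zero_le _) (by rw [show sylF.n = 14976 from rfl] at hi; omega))
    (Subgroup.normalizer (P25 : Set HH)) norm_gens
  let f : Fin sylF.n → Sylow 5 HH := fun i => (t i * rootH (k i)) • Ps
  have hcode : ∀ i, codeS (mapT (t i * rootH (k i))) = csym (sylF.at_ i) := fun i => code_mapT fun j hj => by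
    refine ⟨(h i j hj).1, ?_⟩
    rw [mul_smul, root_spec (lt_of_lt_of_eq (hk i) (by decide +kernel)) j hj]
    exact (h i j hj).2
  have hf : Function.Injective f := fun a b e => Fin.ext (Fst.code_inj (f := csym)
    (fun i hi => (Bool.and_eq_true _ _ ▸ allRange_spec sylF_ok i (Nat.zero_le _)
      (by rw [show sylF.n = 14976 from rfl] at hi; omega) : _ ∧ _).2) a.2 b.2
    (by rw [← hcode, ← hcode, smul_Ps_eq e]))
  have hle : Nat.card (Sylow 5 HH) ≤ 14976 := by
    rw [Ps.card_eq_index_normalizer, Ps_set]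
    have h1 := (Subgroup.normalizer (P25 : Set HH)).index_mul_card
    rw [card_HH] at h1
    by_contra hgt
    have := Nat.mul_le_mul (not_le.1 hgt) card_norm_ge
    rw [h1] at this
    norm_num at this
  have hge := Nat.card_le_card_of_injective f hf
  rw [Nat.card_fin, show sylF.n = 14976 from rfl] at hge
  have hcard := le_antisymm hle hge
  refine ⟨hcard, fun Q => ?_⟩
  obtain ⟨i, hi⟩ := ((Nat.bijective_iff_injective_and_card f).2
    ⟨hf, by rw [Nat.card_fin, hcard]; rfl⟩).2 Q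
  exact ⟨t i, ht i, k i, lt_of_lt_of_eq (hk i) (by decide +kernel), hi.symm⟩

/-- The subgroup generated by two Sylow subgroups. -/
noncomputable def Hr (r : ℕ) : Subgroup HH :=
  Subgroup.closure {uH, vH, rho r * uH * (rho r)⁻¹, rho r * vH * (rho r)⁻¹}

theorem Hr_gens {r : ℕ} (hr : r < 15) : ∀ g ∈ [0, 1, 7 + 2 * r, 8 + 2 * r],
    ∃ t ∈ Hr r, (t : Equiv.Perm Pt) = sp g := by
  intro g hg
  obtain ⟨e1, e2⟩ := conj_sp hr
  simp only [List.mem_cons, List.not_mem_nil, or_false] at hg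
  rcases hg with rfl | rfl | rfl | rfl
  · exact ⟨uH, Subgroup.subset_closure (Or.inl rfl), rfl⟩
  · exact ⟨vH, Subgroup.subset_closure (Or.inr (Or.inl rfl)), rfl⟩
  · exact ⟨_, Subgroup.subset_closure (Or.inr (Or.inr (Or.inl rfl))), e1⟩
  · exact ⟨_, Subgroup.subset_closure (Or.inr (Or.inr (Or.inr rfl))), e2⟩

theorem no_bad {K : Subgroup HH} (hK : Nat.card K = 15600) (hPK : P25 ≤ K) {n : HH}
    (hn : n ∈ Subgroup.normalizer (P25 : Set HH)) {r : ℕ} (hr : r < 15)
    (hH : ∀ t ∈ Hr r, n * t * n⁻¹ ∈ K) : r = 13 := by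
  by_contra hne
  have hs := allRange_spec shapes_ok r (Nat.zero_le _) (by omega)
  have hok0 := allRange_spec badFs_ok r (Nat.zero_le _) (by omega)
  have hrf : Nat.beq r 13 = false := Bool.eq_false_iff.2 fun hb => hne (Nat.eq_of_beq_eq_true hb)
  rw [hrf, Bool.false_or] at hs hok0
  simp only [Bool.and_eq_true, beq_iff_eq] at hs
  generalize badFs.getD r uvF = F at hs hok0
  obtain ⟨⟨hg, hroots⟩, hn157⟩ := hs
  have hn157 : F.n = 157 := Nat.eq_of_beq_eq_true hn157
  have hok : ∀ i < F.n, F.full csym i = true := fun i hi => allRange_spec hok0 i (Nat.zero_le _) (by omega)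
  choose k hk t ht h using fst_elt (f := csym) (fun g hg' => by
    rw [hg] at hg'
    simp only [List.mem_cons, List.not_mem_nil, or_false] at hg'
    omega) hok (Hr r) (by rw [hg]; exact Hr_gens hr)
  have hnfix : n⁻¹ • Ps = Ps := by rw [Sylow.smul_eq_iff_mem_normalizer, Ps_set]; exact inv_mem hn
  have hcode : ∀ i, codeS (mapT (t i)) = csym (F.at_ i) := fun i => code_mapT fun j hj => by
    refine ⟨(h i j hj).1, ?_⟩
    have := (h i j hj).2
    have hki := hk i
    rw [hroots] at this hki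
    rw [List.length_singleton] at hki
    rw [show k i = 0 by omega, List.getD_cons_zero, ← root_spec (by norm_num : (0 : ℕ) < 16) j hj] at this
    rw [rootH, if_pos rfl, one_smul] at this
    exact this
  have hsub : (Ps : Subgroup HH) ≤ K := Ps_coe.le.trans hPK
  let PK : Sylow 5 K := Ps.subtype hsub
  have hinj : Function.Injective (fun i : Fin F.n => (⟨n * t i * n⁻¹, hH _ (ht i)⟩ : K) • PK) := by
    intro a b e
    simp only [PK, Sylow.smul_subtype] at e
    have e' : (n * t a * n⁻¹) • Ps = (n * t b * n⁻¹) • Ps := Sylow.subtype_injective e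
    have e'' : n • t a • n⁻¹ • Ps = n • t b • n⁻¹ • Ps := by
      rwa [mul_smul, mul_smul, mul_smul, mul_smul] at e'
    rw [hnfix] at e''
    refine Fin.ext (Fst.code_inj (f := csym) (fun i hi => (Bool.and_eq_true _ _ ▸ hok i hi : _ ∧ _).2) a.2 b.2 ?_)
    rw [← hcode, ← hcode, smul_Ps_eq (smul_left_cancel n e'')]
  have h157 := Nat.card_le_card_of_injective _ hinj
  rw [Nat.card_fin, hn157] at h157
  have hd := PK.card_dvd_index
  have hidx : (PK : Subgroup K).index = 624 := by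
    rw [Sylow.coe_subtype]
    have e := ((Ps : Subgroup HH).subgroupOf K).index_mul_card
    rw [Nat.card_congr (Subgroup.subgroupOfEquivOfLe hsub).toEquiv,
      show Nat.card (Ps : Subgroup HH) = 25 by rw [Ps_coe]; exact card_P25, hK] at e
    omega
  rw [hidx] at hd
  have hm : Nat.card (Sylow 5 K) % 5 = 1 % 5 := card_sylow_modEq_one 5 K
  have key : ∀ m ∈ Nat.divisors 624, 157 ≤ m → m % 5 ≠ 1 % 5 := by decide +kernel
  exact key _ (Nat.mem_divisors.2 ⟨hd, by norm_num⟩) h157 hm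

theorem fixes_good {K : Subgroup HH} (hK : Nat.card K = 15600) (hH : Hr 13 ≤ K) :
    ∀ k ∈ K, k • qK = qK := by
  have hge : 7800 ≤ Nat.card (Hr 13) :=
    card_ge (F := hPF) (by decide)
      (fun i hi => allRange_spec hPF_ok i (Nat.zero_le _) (by rw [show hPF.n = 7800 from rfl] at hi; omega))
      _ (Hr_gens (r := 13) (by norm_num)) rfl
  have hidx : ((Hr 13).subgroupOf K).index ≤ 2 := by
    have e := ((Hr 13).subgroupOf K).index_mul_card
    rw [Nat.card_congr (Subgroup.subgroupOfEquivOfLe hH).toEquiv, hK] at e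
    by_contra h3
    have : 3 * 7800 ≤ 15600 := e ▸ Nat.mul_le_mul (by omega) hge
    omega
  haveI hnor : ((Hr 13).subgroupOf K).Normal := by
    have h0 : ((Hr 13).subgroupOf K).index ≠ 0 := Subgroup.index_ne_zero_of_finite
    rcases (by omega : ((Hr 13).subgroupOf K).index = 1 ∨ ((Hr 13).subgroupOf K).index = 2) with h | h
    · rw [Subgroup.index_eq_one.1 h]; infer_instance
    · exact Subgroup.normal_of_index_eq_two h
  have hgens : ∀ g ∈ [0, 1, 7 + 2 * 13, 8 + 2 * 13], ∀ x : Pt, (∀ t ∈ Hr 13, t • x = x) → pap g x = (x : ℕ) := by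
    intro g hg x hx
    obtain ⟨t, ht, e⟩ := Hr_gens (r := 13) (by norm_num) g hg
    rw [pap_eq (show g < 38 by simp at hg; omega), ← e]
    exact congrArg Fin.val (hx t ht)
  have hfix : ∀ t ∈ Hr 13, t • qK = qK := by
    refine fun t ht => (Subgroup.closure_le (stabilizer HH qK)).2 ?_ ht
    have hg := allRange_spec good_ok 19 (Nat.zero_le _) (by norm_num)
    have h19 : ((19 : ℕ).beq 19) = true := rfl
    simp only [goodPoint, h19, Bool.or_true, beq_iff_eq, Bool.and_eq_true] at hg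
    obtain ⟨e1, e2⟩ := conj_sp (r := 13) (by norm_num)
    have key : ∀ {g : HH} {k : ℕ}, k < 38 → (g : Equiv.Perm Pt) = sp k → (pap k 19).beq 19 = true → g • qK = qK := by
      intro g k hk hg hp
      refine Fin.ext ?_
      show (((g : Equiv.Perm Pt) qK : Pt) : ℕ) = _
      rw [hg, ← pap_eq hk, qK_val]
      exact Nat.eq_of_beq_eq_true hp
    rintro _ (rfl | rfl | rfl | rfl)
    · exact key (by norm_num) rfl hg.1.1.1
    · exact key (by norm_num) rfl hg.1.1.2
    · exact key (by norm_num) e1 hg.1.2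
    · exact key (by norm_num) e2 hg.2
  intro k hk
  have hall : ∀ t ∈ Hr 13, t • (k • qK) = k • qK := by
    intro t ht
    have := hnor.conj_mem (⟨t, hH ht⟩ : K) ht (⟨k, hk⟩⁻¹)
    rw [inv_inv, Subgroup.mem_subgroupOf] at this
    have h := hfix _ this
    simp only [Subgroup.coe_mul, Subgroup.coe_inv, mul_smul, inv_smul_eq_iff] at h
    exact h
  have hg := allRange_spec good_ok (k • qK : Pt) (Nat.zero_le _) (by omega)
  simp only [goodPoint, beq_iff_eq, hgens 0 (by decide) _ hall, hgens 1 (by decide) _ hall,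
    hgens 33 (by decide) _ hall, hgens 34 (by decide) _ hall, Nat.beq_refl, Bool.and_self] at hg
  rw [eq_comm, Bool.or_eq_true] at hg
  rcases hg with h | h
  · refine absurd (Fin.ext (Nat.eq_of_beq_eq_true h) : k • qK = 0) fun h0 => qK_ne ?_
    exact smul_left_cancel k (h0.trans (smul_zero' k).symm)
  · exact Fin.ext ((Nat.eq_of_beq_eq_true h).trans qK_val.symm)

theorem fixes_K0 (K : Subgroup HH) (hK : Nat.card K = 15600) (hPK : P25 ≤ K) :
    ∃ g : HH, ∀ k ∈ K, k • (g • qK) = g • qK := by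
  obtain ⟨hn5, hall⟩ := all_sylows
  have hN : Nat.card (Subgroup.normalizer (P25 : Set HH)) = 2400 := by
    have h := (Subgroup.normalizer (P25 : Set HH)).index_mul_card
    rw [← Ps_set, ← Ps.card_eq_index_normalizer, hn5, Ps_set, card_HH] at h
    omega
  obtain ⟨k, hk, hne⟩ : ∃ k ∈ K, k • Ps ≠ Ps := by
    by_contra hc
    push_neg at hc
    have hle : K ≤ Subgroup.normalizer (P25 : Set HH) := fun k hk => by
      have := hc k hk
      rwa [Sylow.smul_eq_iff_mem_normalizer, Ps_set] at this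
    have := Subgroup.card_le_of_le hle
    omega
  obtain ⟨n, hn, r, hr, e⟩ := hall (k • Ps)
  have hnfix : n • Ps = Ps := by rw [Sylow.smul_eq_iff_mem_normalizer, Ps_set]; exact hn
  have hr0 : r ≠ 0 := by
    rintro rfl
    exact hne (e.trans (by rw [rootH, if_pos rfl, mul_one, hnfix]))
  rw [rootH, if_neg hr0] at e
  have hH : ∀ t ∈ Hr (r - 1), n * t * n⁻¹ ∈ K := by
    refine fun t ht => (Subgroup.closure_le (K.comap (MulAut.conj n).toMonoidHom)).2 ?_ ht
    have hP : ∀ p ∈ P25, n * p * n⁻¹ ∈ K := fun p hp => hPK ((Subgroup.mem_normalizer_iff.1 hn p).1 hp)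
    have hQ : ∀ p ∈ P25, n * (rho (r - 1) * p * (rho (r - 1))⁻¹) * n⁻¹ ∈ K := by
      intro p hp
      have h : n * (rho (r - 1) * p * (rho (r - 1))⁻¹) * n⁻¹ ∈ ((k • Ps : Sylow 5 HH) : Subgroup HH) := by
        rw [e, mem_smul_Ps]
        simpa [mul_assoc] using hp
      rw [mem_smul_Ps] at h
      have := mul_mem (mul_mem hk (hPK h)) (inv_mem hk)
      simpa [mul_assoc] using this
    rintro _ (rfl | rfl | rfl | rfl)
    exacts [hP _ uH_mem, hP _ vH_mem, hQ _ uH_mem, hQ _ vH_mem]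
  have hr13 := no_bad hK hPK hn (by omega) hH
  rw [hr13] at hH
  let K1 : Subgroup HH := K.map (MulAut.conj n⁻¹).toMonoidHom
  have hmem : ∀ x, n * x * n⁻¹ ∈ K → x ∈ K1 := fun x hx =>
    ⟨_, hx, by simp [MulAut.conj_apply, mul_assoc]⟩
  have h1 := fixes_good (K := K1) ((Subgroup.card_map_of_injective (MulAut.conj n⁻¹).injective).trans hK)
    fun t ht => hmem t (hH t ht)
  refine ⟨n, fun x hx => ?_⟩
  have h2 := h1 _ ⟨x, hx, rfl⟩
  simp only [MulEquiv.coe_toMonoidHom, MulAut.conj_apply, inv_inv, mul_smul, inv_smul_eq_iff] at h2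
  exact h2

theorem fixes_K (K : Subgroup HH) (hK : K.index = 2304) :
    ∃ g : HH, ∀ k ∈ K, k • (g • qK) = g • qK := by
  have hKc : Nat.card K = 15600 := by
    have h := K.index_mul_card
    rw [hK, card_HH] at h
    omega
  obtain ⟨a, ha⟩ := exists_conj_le P25 K isP_P25 (by rw [hK]; norm_num)
  let K0 : Subgroup HH := K.map (MulAut.conj a⁻¹).toMonoidHom
  obtain ⟨g, hg⟩ := fixes_K0 K0 ((Subgroup.card_map_of_injective (MulAut.conj a⁻¹).injective).trans hKc)
    fun p hp => ⟨_, ha p hp, by simp [MulAut.conj_apply, mul_assoc]⟩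
  refine ⟨a * g, fun k hk => ?_⟩
  have h := hg _ ⟨k, hk, rfl⟩
  simp only [MulEquiv.coe_toMonoidHom, MulAut.conj_apply, inv_inv, mul_smul, inv_smul_eq_iff] at h
  rw [mul_smul]
  exact h

end Cfsg.Agent.RuRec12
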