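import Cfsg.Agent.RuRec12.Orbits
import Cfsg.Agent.SuzRec12.Abstract

/-!
A subgroup of index 1755 of the stabiliser fixes a neighbour of the first point.
-/

set_option autoImplicit false
set_option maxRecDepth 100000

namespace Cfsg.Agent.RuRec12

open Cfsg.Agent.CosetEnum Cfsg.Agent.SporB.Ru MulAction
open Cfsg.Agent.SuzRec12 (exists_conj_le)

theorem perm_five : ∀ σ : Equiv.Perm (Fin 5), σ ^ 16 = 1 → σ ^ 4 = 1 := by decide +kernel

theorem perm_le_five {α : Type*} [Finite α] (h : Nat.card α = 1 ∨ Nat.card α = 5) (σ : Equiv.Perm α)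
    (hσ : σ ^ 16 = 1) : σ ^ 4 = 1 := by
  rcases h with h | h
  · haveI := (Nat.card_eq_one_iff_unique.1 h).1
    exact Subsingleton.elim _ _
  · let e : α ≃ Fin 5 := Finite.equivFinOfCardEq h
    have := perm_five (e.permCongrHom σ) (by rw [← map_pow, hσ, map_one])
    rw [← map_pow] at this
    exact e.permCongrHom.injective (this.trans (map_one _).symm)

/-- The element of order sixteen. -/
noncomputable def x0 : HH := ⟨pr x0W, pr_mem x0_in⟩

theorem x0_sixteen : x0 ^ 16 = 1 := by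
  apply Subtype.ext
  show pr x0W ^ 16 = 1
  rw [← pr_rep, pr_eq (rep_in x0_in 16) (B := []) rfl x0_pow, pr_nil]

theorem x0_fixed : {x : Pt | InD x ∧ x0 ^ 4 • x = x}.ncard = 3 := by
  have e : {x : Pt | InD x ∧ x0 ^ 4 • x = x} =
      ↑(Finset.univ.filter fun x : Pt => (adj rows 0 x && Nat.beq (go (rep' x0W 4) x) x) = true) := by
    ext x
    have hx : ((x0 ^ 4 • x : Pt) : ℕ) = go (rep' x0W 4) x := by
      rw [← pr_apply (inS_lt (rep_in x0_in 4)), pr_rep]
      rfl
    simp only [Set.mem_ofPred_eq, Finset.coe_filter, Finset.mem_univ, true_and, Bool.and_eq_true, ← hx]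
    exact and_congr_right fun _ => ⟨fun h => h.symm ▸ Nat.beq_refl _, fun h => Fin.ext (Nat.eq_of_beq_eq_true h)⟩
  rw [e, Set.ncard_coe_finset]
  exact (hits_card _).symm.trans x0_fix

theorem fixes_L (K : Subgroup HH) (hK : K.index = 1755) :
    ∃ g : HH, ∀ k ∈ K, k • (g • qL) = g • qL := by
  haveI : Fact (Nat.Prime 2) := ⟨Nat.prime_two⟩
  have hKc : Nat.card K = 20480 := by
    have h := K.index_mul_card
    rw [hK, card_HH] at h
    omega
  have hp : IsPGroup 2 (Subgroup.zpowers x0) := by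
    rintro ⟨y, i, rfl⟩
    refine ⟨4, Subtype.ext ?_⟩
    show (x0 ^ i) ^ (2 ^ 4) = 1
    rw [← zpow_natCast, ← zpow_mul, mul_comm, zpow_mul, zpow_natCast, show (2 : ℕ) ^ 4 = 16 by norm_num,
      x0_sixteen, one_zpow]
  obtain ⟨g, hg⟩ := exists_conj_le _ K hp (by rw [hK]; norm_num)
  let z : K := ⟨g * x0 * g⁻¹, hg x0 (Subgroup.mem_zpowers x0)⟩
  have hz16 : z ^ 16 = 1 := by
    apply Subtype.ext
    show (g * x0 * g⁻¹) ^ 16 = 1
    rw [conj_pow, x0_sixteen, mul_one, mul_inv_cancel]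
  obtain ⟨T⟩ : Nonempty (Sylow 2 K) := inferInstance
  let T' : Subgroup HH := (T : Subgroup K).map K.subtype
  have hT5 : (T : Subgroup K).index ∣ 5 := by
    have hd : (T : Subgroup K).index ∣ 2 ^ 12 * 5 := by
      have := Subgroup.index_dvd_card (T : Subgroup K)
      rwa [hKc, show 20480 = 2 ^ 12 * 5 by norm_num] at this
    refine (Nat.Coprime.dvd_mul_left ?_).1 hd
    exact (Nat.Coprime.pow_right 12 ((Nat.Prime.coprime_iff_not_dvd Nat.prime_two).2 T.not_dvd_index).symm)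
  have hcard : Nat.card (K ⧸ (T : Subgroup K)) = 1 ∨ Nat.card (K ⧸ (T : Subgroup K)) = 5 := by
    rw [← Subgroup.index_eq_card]
    exact (Nat.dvd_prime (by norm_num)).1 hT5
  have hz4 : z ^ 4 ∈ (T : Subgroup K).normalCore := by
    rw [Subgroup.normalCore_eq_ker, MonoidHom.mem_ker, map_pow]
    exact perm_le_five hcard _ (by rw [← map_pow, hz16, map_one])
  obtain ⟨a, ha⟩ := exists_conj_le T' (stabilizer HH qL) (T.isPGroup'.map K.subtype)
    (by rw [index_L]; norm_num)
  set p : Pt := a⁻¹ • qL with hp'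
  have hTp : ∀ t : K, t ∈ (T : Subgroup K) → (t : HH) • p = p := by
    intro t ht
    have h := mem_stabilizer_iff.1 (ha (t : HH) ⟨t, ht, rfl⟩)
    rw [mul_smul, mul_smul, smul_eq_iff_eq_inv_smul] at h
    exact h
  have hsub : orbit K p ⊆ (fun x => g • x) '' {x : Pt | InD x ∧ x0 ^ 4 • x = x} := by
    rintro _ ⟨k, rfl⟩
    refine ⟨g⁻¹ • ((k : HH) • p), ⟨?_, ?_⟩, smul_inv_smul g _⟩
    · rw [inD_smul, inD_smul, hp', inD_smul]; exact qL_inD
    · have hc := Subgroup.normalCore_le (T : Subgroup K)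
        ((T : Subgroup K).normalCore_normal.conj_mem _ hz4 k⁻¹)
      have h := hTp _ hc
      simp only [Subgroup.coe_mul, Subgroup.coe_pow, Subgroup.coe_inv, inv_inv, z] at h
      rw [conj_pow, mul_smul, mul_smul, inv_smul_eq_iff, mul_smul, mul_smul] at h
      exact (eq_inv_smul_iff.2 h)
  have h3 : (orbit K p).ncard ≤ 3 := by
    refine (Set.ncard_le_ncard hsub (Set.toFinite _)).trans ?_
    exact (Set.ncard_image_le (Set.toFinite _)).trans x0_fixed.le
  have hd : (orbit K p).ncard ∣ 5 := by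
    rw [← index_stabilizer]
    exact (Subgroup.index_dvd_of_le fun t ht => hTp t ht).trans hT5
  have h1 : (orbit K p).ncard = 1 := by
    rcases (Nat.dvd_prime (by norm_num)).1 hd with h | h <;> omega
  refine ⟨a⁻¹, fun k hk => ?_⟩
  obtain ⟨q, hq⟩ := Set.ncard_eq_one.1 h1
  have e1 : (⟨k, hk⟩ : K) • p ∈ orbit K p := mem_orbit _ _
  have e2 : p ∈ orbit K p := mem_orbit_self _
  rw [hq, Set.mem_singleton_iff] at e1 e2
  exact e1.trans e2.symm

end Cfsg.Agent.RuRec12
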