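import Cfsg.Agent.RuRec12.Setting
import Cfsg.Agent.RuRec12.SubL
import Cfsg.Agent.RuRec12.SubK

/-!
The graph of the transitive group is the graph of the Rudvalis group.
-/

set_option autoImplicit false
set_option maxRecDepth 100000

namespace Cfsg.Agent.RuRec12

open Cfsg.Agent.CosetEnum Cfsg.Agent.SporB.Ru

theorem lo_get_lt (y : Pt) : loF.get y < 8 :=
  (Labs.spec (F := loF) (ap := lap) (pg := fun l => pr [l])
    (fun _ hg x => lap_eq (by rcases list_cases2 hg with rfl | rfl <;> decide) x)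
    (fun i hi => allRange_spec lo_ok i (Nat.zero_le _) (by omega)) y).1

theorem ko_gens : ∀ g ∈ koGens, g < 38 ∧ pap g 19 = 19 := by decide +kernel

theorem ko_get_lt (y : Pt) : koF.get y < 9 :=
  (Labs.spec (F := koF) (ap := pap) (pg := sp) (fun g hg x => pap_eq (ko_gens g hg).1 x)
    (fun i hi => allRange_spec ko_ok i (Nat.zero_le _) (by omega)) y).1

theorem lo_move (y : Pt) : ∃ h : HH, h • qL = qL ∧ h • pt? (loRoots.getD (loF.get y) 0) = y := by
  obtain ⟨-, -, g, hg, hgy⟩ := Labs.spec (F := loF) (ap := lap) (pg := fun l => pr [l])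
    (fun _ hg x => lap_eq (by rcases list_cases2 hg with rfl | rfl <;> decide) x)
    (fun i hi => allRange_spec lo_ok i (Nat.zero_le _) (by omega)) y
  have hle : Subgroup.closure {g | g ∈ loF.gens.map fun l => pr [l]} ≤
      S0 ⊓ MulAction.stabilizer (Equiv.Perm Pt) qL := by
    refine (Subgroup.closure_le _).2 ?_
    intro _ hm
    obtain ⟨l, hl, rfl⟩ := List.mem_map.1 hm
    have hfix : ∀ l ∈ [8, 10], act 1126 l = 1126 ∧ l < nl ∧ inS S6 [l] = true := by decide +kernel
    obtain ⟨h1, h2, h3⟩ := hfix l hl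
    refine ⟨pr_mem h3, Fin.ext ?_⟩
    show ((pr [l] qL : Pt) : ℕ) = _
    rw [pr_singleton h2, qL_val, h1]
  exact ⟨⟨g, (hle hg).1⟩, (hle hg).2, hgy⟩

theorem ko_move (y : Pt) : ∃ h : HH, h • qK = qK ∧ h • pt? (koRoots.getD (koF.get y) 0) = y := by
  obtain ⟨-, -, g, hg, hgy⟩ := Labs.spec (F := koF) (ap := pap) (pg := sp)
    (fun g hg x => pap_eq (ko_gens g hg).1 x)
    (fun i hi => allRange_spec ko_ok i (Nat.zero_le _) (by omega)) y
  have hle : Subgroup.closure {g | g ∈ koF.gens.map sp} ≤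
      S0 ⊓ MulAction.stabilizer (Equiv.Perm Pt) qK := by
    refine (Subgroup.closure_le _).2 ?_
    intro _ hm
    obtain ⟨l, hl, rfl⟩ := List.mem_map.1 hm
    obtain ⟨h1, h2⟩ := ko_gens l hl
    refine ⟨sp_mem h1, Fin.ext ?_⟩
    show ((sp l qK : Pt) : ℕ) = _
    rw [← pap_eq h1, qK_val, h2]
  exact ⟨⟨g, (hle hg).1⟩, (hle hg).2, hgy⟩

theorem class_sum {F : Labs} (hs : F.sized = true) (hl : ∀ x : Pt, F.get x < F.roots.length)
    (P : Pt → Prop) (sel : ℕ → Prop) [DecidablePred sel] (h : ∀ y, P y ↔ sel (F.get y)) :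
    {y | P y}.ncard = ∑ c ∈ Finset.range F.roots.length, if sel c then F.sizes.getD c 0 else 0 := by
  classical
  have e : {y | P y} = ↑(Finset.univ.filter fun y : Pt => sel (F.get y)) := by
    ext y; simp [h]
  rw [e, Set.ncard_coe_finset, Finset.card_eq_sum_card_fiberwise
    (f := fun y : Pt => F.get y) (t := Finset.range F.roots.length)
    (fun y _ => Finset.mem_range.2 (hl y))]
  refine Finset.sum_congr rfl fun c hc => ?_
  rw [Finset.filter_filter]
  split_ifs with hsel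
  · rw [← Labs.count hs (Finset.mem_range.1 hc)]
    exact congrArg Finset.card (Finset.filter_congr fun y _ => ⟨fun h => h.2, fun h => ⟨h ▸ hsel, h⟩⟩)
  · rw [Finset.card_eq_zero, Finset.filter_eq_empty_iff]
    rintro y - ⟨h1, rfl⟩
    exact hsel h1

theorem inD_roots : ¬ InD (pt? 0) ∧ InD (pt? 1) ∧ InD (pt? 2) ∧ InD (pt? 11) ∧ ¬ InD (pt? 19) ∧
    ¬ InD (pt? 21) ∧ InD (pt? 350) ∧ InD (pt? 12) := by
  simp only [InD, pt?_val (show 0 < 4060 by norm_num), pt?_val (show 1 < 4060 by norm_num),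
    pt?_val (show 2 < 4060 by norm_num), pt?_val (show 11 < 4060 by norm_num),
    pt?_val (show 19 < 4060 by norm_num), pt?_val (show 21 < 4060 by norm_num),
    pt?_val (show 350 < 4060 by norm_num), pt?_val (show 12 < 4060 by norm_num)]
  decide +kernel

theorem pt_zero : pt? 0 = (0 : Pt) := Fin.ext (pt?_val (by norm_num))

theorem notD_zero : ¬ InD (0 : Pt) := pt_zero ▸ inD_roots.1

theorem adj_symm0 : ∀ y : Pt, adj rows y 0 = adj rows 0 y := by
  have h : allRange (fun y => adj rows y 0 == adj rows 0 y) 0 4060 = true := by decide +kernel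
  exact fun y => beq_iff_eq.1 (allRange_spec h y (Nat.zero_le _) (by omega))

namespace Setting

variable {Ω : Type*} [Finite Ω] {G : Subgroup (Equiv.Perm Ω)} {a b c : Ω} (S : Setting G a b c)

theorem exists_iso : ∃ ψ : Pt ≃ Ω, ∀ p q : Pt, S.R (ψ p) (ψ q) ↔ adj rows p q = true := by
  classical
  obtain ⟨gb, hsB⟩ := S.same_of_fix (q := qL) (w := b) (index_L.trans S.orbB.symm)
    (fixes_L _ ((S.stabK_index b).trans S.orbB))
  obtain ⟨gc, hsC⟩ := S.same_of_fix (q := qK) (w := c) (index_K.trans S.orbC.symm)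
    (fixes_K _ ((S.stabK_index c).trans S.orbC))
  set b' := S.ρ gb b with hb'
  set c' := S.ρ gc c with hc'
  let ψ : Pt → Ω := fun p => if InD p then S.theta qL b' p else if p = 0 then a else S.theta qK c' p
  have ψ0 : ψ 0 = a := (if_neg notD_zero).trans (if_pos rfl)
  have ψD : ∀ g : HH, ψ (g • qL) = S.ρ g b' := fun g =>
    (if_pos ((inD_smul g qL).2 qL_inD)).trans (S.theta_base hsB g)
  have ψN : ∀ g : HH, ψ (g • qK) = S.ρ g c' := fun g => by
    refine ((if_neg fun h => qK_notD ((inD_smul g qK).1 h)).trans (if_neg fun h => qK_ne ?_)).trans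
      (S.theta_base hsC g)
    exact smul_left_cancel g (h.trans (smul_zero' g).symm)
  have ψL : ψ qL = b' := by
    have h := ψD 1
    rwa [one_smul, S.rho_one] at h
  have ψK : ψ qK = c' := by
    have h := ψN 1
    rwa [one_smul, S.rho_one] at h
  have tri : ∀ p : Pt, p = 0 ∨ (∃ g : HH, g • qL = p) ∨ ∃ g : HH, g • qK = p := by
    intro p
    by_cases h : InD p
    · exact Or.inr (Or.inl (reach_L h))
    · by_cases h0 : p = 0
      · exact Or.inl h0
      · exact Or.inr (Or.inr (reach_K h h0))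
  have ψeq : ∀ (h : HH) (p : Pt), ψ (h • p) = S.ρ h (ψ p) := by
    intro h p
    rcases tri p with rfl | ⟨g, rfl⟩ | ⟨g, rfl⟩
    · rw [smul_zero', ψ0, rho_a]
    · rw [← mul_smul, ψD, ψD, rho_mul]
    · rw [← mul_smul, ψN, ψN, rho_mul]
  have ψsur : Function.Surjective ψ := by
    intro w
    rcases S.cover w with rfl | ⟨h, rfl⟩ | ⟨h, rfl⟩
    · exact ⟨0, ψ0⟩
    · exact ⟨(h * gb⁻¹) • qL, by rw [ψD, hb', rho_mul, rho_inv]⟩
    · exact ⟨(h * gc⁻¹) • qK, by rw [ψN, hc', rho_mul, rho_inv]⟩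
  have ψbij : Function.Bijective ψ :=
    ψsur.bijective_of_nat_card_le (le_of_eq (by rw [Nat.card_fin, S.card]))
  let A : Pt → Pt → Prop := fun x y => S.R (ψ x) (ψ y)
  have Amove : ∀ (h : HH) (x y : Pt), A (h • x) (h • y) ↔ A x y := fun h x y => by
    show S.R _ _ ↔ S.R _ _
    rw [ψeq, ψeq, S.R_smul (S.rho_mem h)]
  have Acomm : ∀ x y, A x y ↔ A y x := fun x y => S.R_comm _ _
  have Airr : ∀ x, ¬ A x x := fun x => S.R_irrefl _
  have Acard : ∀ x : Pt, {y | A x y}.ncard = 1755 := by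
    intro x
    rw [← S.nbhd_card (ψ x), ← Set.ncard_image_of_injective _ ψbij.1]
    congr 1
    ext w
    constructor
    · rintro ⟨y, hy, rfl⟩; exact hy
    · intro hw
      obtain ⟨y, rfl⟩ := ψsur w
      exact ⟨y, hw, rfl⟩
  have A0 : ∀ y : Pt, A 0 y ↔ InD y := by
    intro y
    show S.R _ _ ↔ _
    rw [ψ0, S.R_a]
    rcases tri y with rfl | ⟨g, rfl⟩ | ⟨g, rfl⟩
    · rw [ψ0]; exact iff_of_false S.a_not_B notD_zero
    · rw [ψD, S.mem_B_rho]
      exact iff_of_true ((S.mem_B_rho gb).2 ⟨1, S.rho_one b⟩) ((inD_smul g qL).2 qL_inD)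
    · rw [ψN, S.mem_B_rho]
      refine iff_of_false (fun h => S.disj h ((S.mem_C_rho gc).2 ⟨1, S.rho_one c⟩))
        fun h => qK_notD ((inD_smul g qK).1 h)
  have AL : ∀ y : Pt, A qL y ↔ A qL (pt? (loRoots.getD (loF.get y) 0)) := by
    intro y
    obtain ⟨h, h1, h2⟩ := lo_move y
    conv_lhs => rw [← h1, ← h2, Amove]
  have AK : ∀ y : Pt, A qK y ↔ A qK (pt? (koRoots.getD (koF.get y) 0)) := by
    intro y
    obtain ⟨h, h1, h2⟩ := ko_move y
    conv_lhs => rw [← h1, ← h2, Amove]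
  let u : ℕ → ℕ := fun x => if A qL (pt? x) then 1 else 0
  let v : ℕ → ℕ := fun x => if A qK (pt? x) then 1 else 0
  have u_le : ∀ x, u x ≤ 1 := fun x => by simp only [u]; split_ifs <;> omega
  have v_le : ∀ x, v x ≤ 1 := fun x => by simp only [v]; split_ifs <;> omega
  have u_iff : ∀ x, A qL (pt? x) ↔ u x = 1 := fun x => by simp only [u]; split_ifs with h <;> simp [h]
  have v_iff : ∀ x, A qK (pt? x) ↔ v x = 1 := fun x => by simp only [v]; split_ifs with h <;> simp [h]
  have eqL : u 0 * 1 + u 1 * 640 + u 2 * 1024 + u 11 * 80 + u 19 * 1024 + u 21 * 1280 +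
      u 350 * 10 + u 1126 * 1 = 1755 := by
    rw [← Acard qL, class_sum lo_size lo_get_lt (fun y => A qL y)
      (fun c => A qL (pt? (loRoots.getD c 0))) AL, show loF.roots.length = 8 from rfl]
    simp [Finset.sum_range_succ, loF, loRoots, loSizes, u, ite_mul]
  have eqK : v 0 * 1 + v 1 * 975 + v 12 * 780 + v 19 * 1 + v 20 * 975 + v 21 * 300 +
      v 22 * 300 + v 25 * 650 + v 26 * 78 = 1755 := by
    rw [← Acard qK, class_sum ko_size ko_get_lt (fun y => A qK y)
      (fun c => A qK (pt? (koRoots.getD c 0))) AK, show koF.roots.length = 9 from rfl]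
    simp [Finset.sum_range_succ, koF, koRoots, koSizes, v, ite_mul]
  obtain ⟨d0, d1, d2, d11, d19, d21, d350, d12⟩ := inD_roots
  have hu0 : u 0 = 1 := (u_iff 0).1 (by rw [pt_zero, Acomm, A0]; exact qL_inD)
  have hu7 : u 1126 = 0 := if_neg (Airr qL)
  have hv0 : v 0 = 0 := if_neg (by rw [pt_zero, Acomm, A0]; exact qK_notD)
  have hv3 : v 19 = 0 := if_neg (Airr qK)
  have hne : ∀ x, ¬ InD (pt? x) → pt? x = 0 ∨ ∃ g : HH, g • qK = pt? x := fun x h =>
    (eq_or_ne (pt? x) 0).imp_right (reach_K h)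
  have hcl : u 19 = 1 ∨ u 21 = 1 := by
    have hv12 : v 1 = 1 ∨ v 12 = 1 := by
      have := v_le 1; have := v_le 12; have := v_le 20; have := v_le 21
      have := v_le 22; have := v_le 25; have := v_le 26
      omega
    have key : ∀ x, InD (pt? x) → v x = 1 → u 19 = 1 ∨ u 21 = 1 := by
      intro x hx hvx
      obtain ⟨g, hg⟩ := reach_L hx
      have h1 : A qL (g⁻¹ • qK) := by
        rw [← Amove g, hg, smul_inv_smul, Acomm]
        exact (v_iff x).2 hvx
      rw [AL] at h1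
      have hl := lo_get_lt (g⁻¹ • qK)
      obtain ⟨m, -, hm⟩ := lo_move (g⁻¹ • qK)
      have hnD : ¬ InD (pt? (loRoots.getD (loF.get ((g⁻¹ • qK : Pt) : ℕ)) 0)) := fun h =>
        qK_notD ((inD_smul g⁻¹ qK).1 (hm ▸ (inD_smul m _).2 h))
      have hn0 : pt? (loRoots.getD (loF.get ((g⁻¹ • qK : Pt) : ℕ)) 0) ≠ 0 := fun h => by
        rw [h, smul_zero'] at hm
        exact qK_ne (smul_left_cancel g⁻¹ (hm.symm.trans (smul_zero' _).symm))
      generalize loF.get ((g⁻¹ • qK : Pt) : ℕ) = k at h1 hl hnD hn0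
      interval_cases k
      · exact absurd pt_zero hn0
      · exact absurd d1 hnD
      · exact absurd d2 hnD
      · exact absurd d11 hnD
      · exact Or.inl ((u_iff 19).1 h1)
      · exact Or.inr ((u_iff 21).1 h1)
      · exact absurd d350 hnD
      · exact absurd qL_inD hnD
    rcases hv12 with h | h
    exacts [key 1 d1 h, key 12 d12 h]
  have hb := u_le 1; have hb2 := u_le 2; have hb3 := u_le 11; have hb4 := u_le 19
  have hb5 := u_le 21; have hb6 := u_le 350
  have uval : u 1 = 1 ∧ u 2 = 0 ∧ u 11 = 1 ∧ u 19 = 1 ∧ u 21 = 0 ∧ u 350 = 1 := by omega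
  have hnot : ¬ (v 1 = 1 ∧ v 12 = 1) := by
    rintro ⟨h1, h12⟩
    obtain ⟨g, hg⟩ := (hne 21 d21).resolve_left fun h => d21 (by
      have := congrArg Fin.val h
      rw [pt?_val (by norm_num)] at this
      exact absurd this (by norm_num))
    have h : A qK (g⁻¹ • qL) := by
      rw [AK]
      have hl := ko_get_lt (g⁻¹ • qL)
      obtain ⟨m, -, hm⟩ := ko_move (g⁻¹ • qL)
      have hD : InD (pt? (koRoots.getD (koF.get ((g⁻¹ • qL : Pt) : ℕ)) 0)) :=
        (inD_smul m _).1 (hm.symm ▸ (inD_smul g⁻¹ qL).2 qL_inD)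
      have hD' : adj rows 0 (pt? (koRoots.getD (koF.get ((g⁻¹ • qL : Pt) : ℕ)) 0) : Pt) = true := hD
      generalize koF.get ((g⁻¹ • qL : Pt) : ℕ) = k at hD' hl
      rw [pt?_val (by interval_cases k <;> decide)] at hD'
      have hk : ∀ k < 9, adj rows 0 (koRoots.getD k 0) = true → k = 1 ∨ k = 2 := by decide +kernel
      rcases hk k hl hD' with rfl | rfl
      exacts [(v_iff 1).2 h1, (v_iff 12).2 h12]
    have h' : A qL (pt? 21) := by
      rw [← hg, Acomm, ← Amove g⁻¹, inv_smul_smul]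
      exact h
    have := (u_iff 21).1 h'
    omega
  have vval : v 1 = 0 ∧ v 12 = 1 ∧ v 20 = 1 ∧ v 21 = 0 ∧ v 22 = 0 ∧ v 25 = 0 ∧ v 26 = 0 := by
    have := v_le 1; have := v_le 12; have := v_le 20; have := v_le 21
    have := v_le 22; have := v_le 25; have := v_le 26
    omega
  have baseL : ∀ y : Pt, A qL y ↔ adj rows 1126 y = true := by
    intro y
    rw [AL, (adj_spec y).2.1]
    have hl := lo_get_lt y
    generalize loF.get y = k at hl
    interval_cases k <;> simp [loRoots, loAdj, u_iff, hu0, hu7, uval]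
  have baseK : ∀ y : Pt, A qK y ↔ adj rows 19 y = true := by
    intro y
    rw [AK, (adj_spec y).2.2]
    have hl := ko_get_lt y
    generalize koF.get y = k at hl
    interval_cases k <;> simp [koRoots, koAdj, v_iff, hv0, hv3, vval]
  have move : ∀ (h : HH) (x y : Pt), adj rows (h • x : Pt) (h • y : Pt) = adj rows x y :=
    fun h x y => S0_le_autG h.2 x y
  refine ⟨Equiv.ofBijective ψ ψbij, fun p q => ?_⟩
  show A p q ↔ _
  rcases tri p with rfl | ⟨g, rfl⟩ | ⟨g, rfl⟩
  · exact A0 q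
  · rw [← smul_inv_smul g q, Amove, move, baseL, qL_val]
  · rw [← smul_inv_smul g q, Amove, move, baseK, qK_val]

end Setting

end Cfsg.Agent.RuRec12
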