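import Cfsg.Agent.RuRec12.Base
import Cfsg.Agent.RuRec12.CheckP
import Cfsg.Agent.RuRec12.CheckL
import Cfsg.Agent.RuRec12.CheckW

/-!
The orbits of the stabiliser of the first point.
-/

set_option autoImplicit false
set_option maxRecDepth 100000

namespace Cfsg.Agent.RuRec12

open Cfsg.Agent.CosetEnum Cfsg.Agent.SporB.Ru MulAction

/-- The stabiliser as a group. -/
abbrev HH : Type := ↥S0

/-- Adjacent to the first point. -/
def InD (x : Pt) : Prop := adj rows 0 x = true

/-- A point adjacent to the first one. -/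
noncomputable def qL : Pt := pt? 1126

/-- A point not adjacent to the first one. -/
noncomputable def qK : Pt := pt? 19

theorem qL_val : ((qL : Pt) : ℕ) = 1126 := pt?_val (by norm_num)

theorem qK_val : ((qK : Pt) : ℕ) = 19 := pt?_val (by norm_num)

theorem card_HH : Nat.card HH = 35942400 := card_g1

theorem pap_eq {g : ℕ} (hg : g < 38) (x : Pt) : pap g x = ((sp g x : Pt) : ℕ) := by
  have hW : ∀ l ∈ pW.getD g [], l < nl := by
    rw [List.getD_eq_getElem _ _ (by rw [pW_length]; exact hg)]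
    exact inS_lt (List.all_eq_true.1 pW_in _ (List.getElem_mem _))
  rw [sp, pr_apply hW]
  exact (Nat.eq_of_beq_eq_true (pap_ok g hg x x.2)).symm

theorem sp_mem {g : ℕ} (hg : g < 38) : sp g ∈ S0 := by
  rw [sp, List.getD_eq_getElem _ _ (by rw [pW_length]; exact hg)]
  exact pr_mem (List.all_eq_true.1 pW_in _ (List.getElem_mem _))

theorem spg_le {L : List ℕ} (h : ∀ g ∈ L, g < 38) : spg L ≤ S0 := by
  refine (Subgroup.closure_le _).2 fun _ hm => ?_
  obtain ⟨g, hg, rfl⟩ := List.mem_map.1 hm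
  exact sp_mem (h g hg)

theorem inD_perm {g : Equiv.Perm Pt} (hg : g ∈ S0) (x : Pt) : InD (g x) ↔ InD x := by
  have h := S0_le_autG hg 0 x
  rw [fix_zero hg] at h
  exact iff_of_eq (congrArg (· = true) h)

theorem inD_smul (g : HH) (x : Pt) : InD (g • x) ↔ InD x := inD_perm g.2 x

theorem adj_spec (x : Pt) : adj rows 0 x = Nat.beq (ooF.get x) 1 ∧
    adj rows 1126 x = loAdj.getD (loF.get x) false ∧ adj rows 19 x = koAdj.getD (koF.get x) false := by
  have h := allRange_spec adj_ok x (Nat.zero_le _) (by omega)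
  simp only [adjPoint, Bool.and_eq_true, beq_iff_eq] at h
  exact ⟨h.1.1, h.1.2, h.2⟩

theorem inD_iff (x : Pt) : InD x ↔ ooF.get x = 1 := by
  rw [InD, (adj_spec x).1]
  exact ⟨Nat.eq_of_beq_eq_true, fun h => h ▸ Nat.beq_refl _⟩

theorem lap_eq {g : ℕ} (hg : g < nl) (x : Pt) : lap g x = ((pr [g] x : Pt) : ℕ) :=
  (pr_singleton hg x).symm

theorem oo_spec (x : Pt) : ooF.get x < 3 ∧ ∃ g : HH, g • pt? (ooRoots.getD (ooF.get x) 0) = x := by
  have h := Labs.spec (F := ooF) (ap := lap) (pg := fun l => pr [l]) (fun g hg y => lap_eq (by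
    revert hg g; decide) y) (fun i hi => allRange_spec oo_ok i (Nat.zero_le _) (by omega)) x
  obtain ⟨h1, -, g, hg, hgx⟩ := h
  refine ⟨h1, ⟨g, ?_⟩, hgx⟩
  refine (Subgroup.closure_le _).2 ?_ hg
  intro _ hm
  obtain ⟨l, hl, rfl⟩ := List.mem_map.1 hm
  exact pr_mem (by revert hl l; decide)

theorem qL_inD : InD qL := by
  show adj rows 0 (qL : Pt) = true
  rw [qL_val]
  decide +kernel

theorem reach_L {x : Pt} (hx : InD x) : ∃ g : HH, g • qL = x := by
  obtain ⟨-, g, hg⟩ := oo_spec x
  obtain ⟨-, k, hk⟩ := oo_spec qL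
  rw [(inD_iff x).1 hx] at hg
  rw [(inD_iff qL).1 qL_inD] at hk
  refine ⟨g * k⁻¹, ?_⟩
  rw [mul_smul]
  conv_lhs => rw [← hk, inv_smul_smul]
  exact hg

theorem smul_zero' (g : HH) : g • (0 : Pt) = 0 := fix_zero g.2

theorem qK_notD : ¬ InD qK := by
  show ¬ adj rows 0 (qK : Pt) = true
  rw [qK_val]
  decide +kernel

theorem qK_ne : qK ≠ 0 := by
  intro h
  have := congrArg Fin.val h
  rw [qK_val] at this
  exact absurd this (by norm_num)

theorem oo_two {x : Pt} (hx : ¬ InD x) (h0 : x ≠ 0) : ooF.get x = 2 := by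
  obtain ⟨h, g, hg⟩ := oo_spec x
  rcases (by omega : ooF.get x = 0 ∨ ooF.get x = 1 ∨ ooF.get x = 2) with e | e | e
  · rw [e] at hg
    exact absurd (hg.symm.trans (smul_zero' g)) h0
  · exact absurd ((inD_iff x).2 e) hx
  · exact e

theorem reach_K {x : Pt} (hx : ¬ InD x) (h0 : x ≠ 0) : ∃ g : HH, g • qK = x := by
  obtain ⟨-, g, hg⟩ := oo_spec x
  rw [oo_two hx h0] at hg
  exact ⟨g, hg⟩

theorem oo_zero {x : Pt} (h : x = 0) : ooF.get x = 0 := by
  subst h
  show ooF.get 0 = 0
  decide +kernel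

theorem orbit_L : (orbit HH qL).ncard = 1755 := by
  have e : orbit HH qL = ↑(Finset.univ.filter fun x : Pt => ooF.get x = 1) := by
    ext x
    rw [Finset.mem_coe, Finset.mem_filter, and_iff_right (Finset.mem_univ _), ← inD_iff]
    exact ⟨fun ⟨g, hg⟩ => hg ▸ (inD_smul g qL).2 qL_inD, reach_L⟩
  rw [e, Set.ncard_coe_finset, Labs.count oo_size (by decide)]
  rfl

theorem orbit_K : (orbit HH qK).ncard = 2304 := by
  have e : orbit HH qK = ↑(Finset.univ.filter fun x : Pt => ooF.get x = 2) := by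
    ext x
    rw [Finset.mem_coe, Finset.mem_filter, and_iff_right (Finset.mem_univ _)]
    constructor
    · rintro ⟨g, rfl⟩
      refine oo_two (fun h => qK_notD ((inD_smul g qK).1 h)) fun h => qK_ne ?_
      exact smul_left_cancel g (h.trans (smul_zero' g).symm)
    · intro h
      obtain ⟨-, g, hg⟩ := oo_spec x
      rw [h] at hg
      exact ⟨g, hg⟩
  rw [e, Set.ncard_coe_finset, Labs.count oo_size (by decide)]
  rfl

theorem index_L : (stabilizer HH qL).index = 1755 := by rw [index_stabilizer, orbit_L]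

theorem index_K : (stabilizer HH qK).index = 2304 := by rw [index_stabilizer, orbit_K]

/-- A point fixed by a subgroup of the same index as its stabiliser has it as stabiliser. -/
theorem eq_stabilizer {K : Subgroup HH} {x : Pt} (hK : K.index = (stabilizer HH x).index)
    (h : ∀ k ∈ K, k • x = x) : K = stabilizer HH x := by
  refine Subgroup.eq_of_le_of_card_ge (fun k hk => h k hk) ?_
  have h1 := K.index_mul_card
  have h2 := (stabilizer HH x).index_mul_card
  rw [hK, ← h2] at h1
  exact (Nat.eq_of_mul_eq_mul_left (Nat.pos_of_ne_zero Subgroup.index_ne_zero_of_finite) h1).ge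

theorem pr_rep (W : List ℕ) : ∀ k, pr (rep' W k) = pr W ^ k
  | 0 => by rw [pow_zero]; exact pr_nil
  | k + 1 => by rw [rep', pr_append, pr_rep W k, ← pow_succ]

theorem rep_in {W : List ℕ} (h : inS S6 W = true) : ∀ k, inS S6 (rep' W k) = true
  | 0 => rfl
  | k + 1 => by
    have := rep_in h k
    simp only [inS, List.all_eq_true] at *
    intro l hl
    rcases List.mem_append.1 (show l ∈ W ++ rep' W k from hl) with hl | hl
    · exact h l hl
    · exact this l hl

end Cfsg.Agent.RuRec12
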