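import Cfsg.Agent.RuRec12.Orbits

/-!
A transitive group with a point stabiliser isomorphic to that of the Rudvalis group: the graph
given by its orbit of size 1755.
-/

set_option autoImplicit false

namespace Cfsg.Agent.RuRec12

variable {Ω : Type*} [Finite Ω]

/-- The data of the recognition problem. -/
structure Setting (G : Subgroup (Equiv.Perm Ω)) (a b c : Ω) where
  /-- The embedding of the stabiliser. -/
  ρ : HH →* Equiv.Perm Ω
  inj : Function.Injective ρ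
  mem : ∀ g : Equiv.Perm Ω, g ∈ ρ.range ↔ g ∈ G ∧ g a = a
  trans : ∀ u : Ω, ∃ g ∈ G, g a = u
  card : Nat.card Ω = 4060
  orbB : {w | ∃ h : HH, ρ h b = w}.ncard = 1755
  orbC : {w | ∃ h : HH, ρ h c = w}.ncard = 2304

namespace Setting

variable {G : Subgroup (Equiv.Perm Ω)} {a b c : Ω} (S : Setting G a b c)

theorem rho_mem (h : HH) : S.ρ h ∈ G := ((S.mem _).1 ⟨h, rfl⟩).1

theorem rho_a (h : HH) : S.ρ h a = a := ((S.mem _).1 ⟨h, rfl⟩).2

theorem rho_one (x : Ω) : S.ρ 1 x = x := by rw [map_one]; rfl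

theorem rho_mul (g h : HH) (x : Ω) : S.ρ (g * h) x = S.ρ g (S.ρ h x) := by rw [map_mul]; rfl

theorem rho_inv (g : HH) (x : Ω) : S.ρ g⁻¹ (S.ρ g x) = x := by rw [← rho_mul, inv_mul_cancel, rho_one]

/-- The orbit of size 1755. -/
noncomputable def B : Set Ω := {w | ∃ h : HH, S.ρ h b = w}

/-- The orbit of size 2304. -/
noncomputable def C : Set Ω := {w | ∃ h : HH, S.ρ h c = w}

theorem mem_B_rho {w : Ω} (h : HH) : S.ρ h w ∈ S.B ↔ w ∈ S.B := by
  constructor
  · rintro ⟨g, hg⟩; exact ⟨h⁻¹ * g, by rw [rho_mul, hg, rho_inv]⟩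
  · rintro ⟨g, rfl⟩; exact ⟨h * g, rho_mul S h g b⟩

theorem mem_C_rho {w : Ω} (h : HH) : S.ρ h w ∈ S.C ↔ w ∈ S.C := by
  constructor
  · rintro ⟨g, hg⟩; exact ⟨h⁻¹ * g, by rw [rho_mul, hg, rho_inv]⟩
  · rintro ⟨g, rfl⟩; exact ⟨h * g, rho_mul S h g c⟩

theorem a_not_B : a ∉ S.B := by
  rintro ⟨h, hh⟩
  have e : {w | ∃ h : HH, S.ρ h b = w} = {a} := by
    have hb : b = a := by
      have := congrArg (S.ρ h⁻¹) hh
      rwa [rho_inv, rho_a] at this
    ext w
    simp [hb, rho_a, eq_comm]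
  have := S.orbB
  rw [e, Set.ncard_singleton] at this
  omega

theorem a_not_C : a ∉ S.C := by
  rintro ⟨h, hh⟩
  have e : {w | ∃ h : HH, S.ρ h c = w} = {a} := by
    have hb : c = a := by
      have := congrArg (S.ρ h⁻¹) hh
      rwa [rho_inv, rho_a] at this
    ext w
    simp [hb, rho_a, eq_comm]
  have := S.orbC
  rw [e, Set.ncard_singleton] at this
  omega

theorem disj {w : Ω} (hB : w ∈ S.B) : w ∉ S.C := by
  intro hC
  obtain ⟨g, rfl⟩ := hB
  have hb : b ∈ S.C := (S.mem_C_rho g).1 hC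
  obtain ⟨h, hb'⟩ := hb
  have hb'' : S.ρ h⁻¹ b = c := by
    have := S.rho_inv h c
    rwa [hb'] at this
  have e : {w | ∃ k : HH, S.ρ k b = w} = {w | ∃ k : HH, S.ρ k c = w} := by
    ext w
    exact ⟨fun ⟨k, hk⟩ => ⟨k * h, by rw [rho_mul, hb', hk]⟩,
      fun ⟨k, hk⟩ => ⟨k * h⁻¹, by rw [rho_mul, hb'', hk]⟩⟩
  have := S.orbB
  rw [e, S.orbC] at this
  omega

theorem cover (w : Ω) : w = a ∨ w ∈ S.B ∨ w ∈ S.C := by
  have hu : insert a (S.B ∪ S.C) = Set.univ := by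
    refine Set.eq_of_subset_of_ncard_le (Set.subset_univ _) ?_ (Set.toFinite _)
    rw [Set.ncard_univ, S.card, Set.ncard_insert_of_notMem (by simp [a_not_B, a_not_C]) (Set.toFinite _),
      Set.ncard_union_eq (Set.disjoint_left.2 fun _ h => S.disj h) (Set.toFinite _) (Set.toFinite _),
      show S.B.ncard = 1755 from S.orbB, show S.C.ncard = 2304 from S.orbC]
  have := Set.eq_univ_iff_forall.1 hu w
  simpa using this

/-- The graph. -/
noncomputable def R (u v : Ω) : Prop :=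
  ∃ g ∈ G, g a = u ∧ ∃ h : HH, g (S.ρ h b) = v

theorem R_a (v : Ω) : S.R a v ↔ v ∈ S.B := by
  constructor
  · rintro ⟨g, hg, hga, h, rfl⟩
    obtain ⟨k, rfl⟩ := (S.mem g).2 ⟨hg, hga⟩
    exact ⟨k * h, rho_mul S k h b⟩
  · rintro ⟨h, rfl⟩
    exact ⟨1, one_mem _, rfl, h, rfl⟩

theorem R_smul {g : Equiv.Perm Ω} (hg : g ∈ G) (u v : Ω) : S.R (g u) (g v) ↔ S.R u v := by
  constructor
  · rintro ⟨k, hk, hku, h, hv⟩
    refine ⟨g⁻¹ * k, mul_mem (inv_mem hg) hk, ?_, h, ?_⟩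
    · rw [Equiv.Perm.mul_apply, hku, Equiv.Perm.coe_inv, Equiv.symm_apply_apply]
    · rw [Equiv.Perm.mul_apply, hv, Equiv.Perm.coe_inv, Equiv.symm_apply_apply]
  · rintro ⟨k, hk, rfl, h, rfl⟩
    exact ⟨g * k, mul_mem hg hk, rfl, h, rfl⟩

theorem R_iff {g : Equiv.Perm Ω} (hg : g ∈ G) {u : Ω} (hu : g a = u) (v : Ω) :
    S.R u v ↔ g⁻¹ v ∈ S.B := by
  have := S.R_smul hg a (g⁻¹ v)
  rw [hu, Equiv.Perm.coe_inv, Equiv.apply_symm_apply] at this
  rw [this, Equiv.Perm.coe_inv, R_a]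

theorem orbit_mul_card (w : Ω) :
    {v | ∃ h : HH, S.ρ h w = v}.ncard * Nat.card ↥(G ⊓ MulAction.stabilizer (Equiv.Perm Ω) a ⊓
      MulAction.stabilizer (Equiv.Perm Ω) w : Subgroup (Equiv.Perm Ω)) = 35942400 := by
  letI : MulAction HH Ω := MulAction.compHom Ω S.ρ
  have h := (MulAction.stabilizer HH w).index_mul_card
  rw [MulAction.index_stabilizer, card_HH] at h
  have e : (MulAction.stabilizer HH w).map S.ρ = G ⊓ MulAction.stabilizer (Equiv.Perm Ω) a ⊓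
      MulAction.stabilizer (Equiv.Perm Ω) w := by
    ext g
    rw [Subgroup.mem_map]
    constructor
    · rintro ⟨k, hk, rfl⟩
      exact ⟨⟨S.rho_mem k, S.rho_a k⟩, hk⟩
    · rintro ⟨hg, hw⟩
      obtain ⟨k, rfl⟩ := (S.mem g).2 hg
      exact ⟨k, hw, rfl⟩
  rw [← Subgroup.card_map_of_injective S.inj, e] at h
  exact h

theorem R_symm {u v : Ω} (h : S.R u v) : S.R v u := by
  obtain ⟨g, hg, hgu⟩ := S.trans u
  have hv : g⁻¹ v ∈ S.B := (S.R_iff hg hgu v).1 h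
  suffices hh : ∀ w ∈ S.B, S.R w a by
    have := (S.R_smul hg _ _).2 (hh _ hv)
    rwa [hgu, Equiv.Perm.coe_inv, Equiv.apply_symm_apply] at this
  intro w hw
  obtain ⟨k, hk, hkw⟩ := S.trans w
  rw [S.R_iff hk hkw]
  rcases S.cover (k⁻¹ a) with h' | h' | h'
  · exfalso
    have : w = a := by
      rw [Equiv.Perm.coe_inv] at h'
      have := congrArg k h'
      rw [Equiv.apply_symm_apply, hkw] at this
      exact this.symm
    exact S.a_not_B (this ▸ hw)
  · exact h'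
  · exfalso
    have h1 := S.orbit_mul_card w
    have h2 := S.orbit_mul_card (k⁻¹ a)
    have o1 : {v | ∃ h : HH, S.ρ h w = v}.ncard = 1755 := by
      obtain ⟨m, rfl⟩ := hw
      rw [← S.orbB]
      congr 1
      ext v
      exact ⟨fun ⟨p, hp⟩ => ⟨p * m, by rw [rho_mul, hp]⟩,
        fun ⟨p, hp⟩ => ⟨p * m⁻¹, by rw [rho_mul, rho_inv, hp]⟩⟩
    have o2 : {v | ∃ h : HH, S.ρ h (k⁻¹ a) = v}.ncard = 2304 := by
      obtain ⟨m, hm⟩ := h'
      rw [← S.orbC, ← hm]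
      congr 1
      ext v
      exact ⟨fun ⟨p, hp⟩ => ⟨p * m, by rw [rho_mul, hp]⟩,
        fun ⟨p, hp⟩ => ⟨p * m⁻¹, by rw [rho_mul, rho_inv, hp]⟩⟩
    rw [o1] at h1
    rw [o2] at h2
    have e : (G ⊓ MulAction.stabilizer (Equiv.Perm Ω) a ⊓ MulAction.stabilizer (Equiv.Perm Ω) (k⁻¹ a)).map
        (MulAut.conj k).toMonoidHom =
        G ⊓ MulAction.stabilizer (Equiv.Perm Ω) a ⊓ MulAction.stabilizer (Equiv.Perm Ω) w := by
      ext g
      rw [Subgroup.mem_map]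
      simp only [Subgroup.mem_inf, MulAction.mem_stabilizer_iff, Equiv.Perm.smul_def,
        MulEquiv.coe_toMonoidHom, MulAut.conj_apply]
      constructor
      · rintro ⟨x, ⟨⟨hx, hxa⟩, hxw⟩, rfl⟩
        refine ⟨⟨mul_mem (mul_mem hk hx) (inv_mem hk), ?_⟩, ?_⟩
        · rw [Equiv.Perm.mul_apply, Equiv.Perm.mul_apply, hxw, Equiv.Perm.coe_inv, Equiv.apply_symm_apply]
        · rw [Equiv.Perm.mul_apply, Equiv.Perm.mul_apply, Equiv.Perm.coe_inv, ← hkw,
            Equiv.symm_apply_apply, hxa]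
      · rintro ⟨⟨hg', hga⟩, hgw⟩
        refine ⟨k⁻¹ * g * k, ⟨⟨mul_mem (mul_mem (inv_mem hk) hg') hk, ?_⟩, ?_⟩, by group⟩
        · rw [Equiv.Perm.mul_apply, Equiv.Perm.mul_apply, hkw, hgw, ← hkw, Equiv.Perm.coe_inv,
            Equiv.symm_apply_apply]
        · rw [Equiv.Perm.mul_apply, Equiv.Perm.mul_apply, Equiv.Perm.coe_inv, Equiv.apply_symm_apply, hga]
    rw [← e, Subgroup.card_map_of_injective (MulAut.conj k).injective] at h1
    omega

theorem R_comm (u v : Ω) : S.R u v ↔ S.R v u := ⟨S.R_symm, S.R_symm⟩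

theorem R_irrefl (u : Ω) : ¬ S.R u u := by
  intro h
  obtain ⟨g, hg, rfl⟩ := S.trans u
  exact S.a_not_B ((S.R_a a).1 ((S.R_smul hg a a).1 h))

theorem nbhd_card (u : Ω) : {v | S.R u v}.ncard = 1755 := by
  obtain ⟨g, hg, hgu⟩ := S.trans u
  have e : {v | S.R u v} = g '' S.B := by
    ext v
    rw [Set.mem_ofPred_eq, S.R_iff hg hgu, Equiv.Perm.coe_inv]
    constructor
    · exact fun h => ⟨_, h, Equiv.apply_symm_apply _ _⟩
    · rintro ⟨w, hw, rfl⟩; rwa [Equiv.symm_apply_apply]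
  rw [e, Set.ncard_image_of_injective _ g.injective]
  exact S.orbB

/-- The elements fixing a point. -/
noncomputable def stabK (w : Ω) : Subgroup HH := (MulAction.stabilizer (Equiv.Perm Ω) w).comap S.ρ

theorem mem_stabK {w : Ω} {h : HH} : h ∈ S.stabK w ↔ S.ρ h w = w := Iff.rfl

theorem stabK_index (w : Ω) : (S.stabK w).index = {v | ∃ h : HH, S.ρ h w = v}.ncard := by
  letI : MulAction HH Ω := MulAction.compHom Ω S.ρ
  have e : S.stabK w = MulAction.stabilizer HH w := rfl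
  rw [e, MulAction.index_stabilizer]
  rfl

/-- The stabilisers of two points agree. -/
noncomputable def SameStab (q : SporB.Ru.Pt) (w : Ω) : Prop := ∀ h : HH, h • q = q ↔ S.ρ h w = w

theorem same_of_fix {q : SporB.Ru.Pt} {w : Ω}
    (hi : (MulAction.stabilizer HH q).index = {v | ∃ h : HH, S.ρ h w = v}.ncard)
    (hfix : ∃ g : HH, ∀ k ∈ S.stabK w, k • (g • q) = g • q) :
    ∃ g : HH, S.SameStab q (S.ρ g w) := by
  obtain ⟨g, hg⟩ := hfix
  have hgi : (MulAction.stabilizer HH (g • q)).index = (MulAction.stabilizer HH q).index := by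
    rw [MulAction.index_stabilizer, MulAction.index_stabilizer,
      MulAction.orbit_eq_iff.2 (MulAction.mem_orbit q g)]
  have e := eq_stabilizer (by rw [S.stabK_index w, hgi, hi]) hg
  refine ⟨g⁻¹, fun h => ?_⟩
  have h1 := SetLike.ext_iff.1 e (g * h * g⁻¹)
  rw [S.mem_stabK, MulAction.mem_stabilizer_iff, mul_smul, mul_smul, inv_smul_smul, smul_left_cancel_iff] at h1
  rw [← h1, S.rho_mul, S.rho_mul]
  exact ⟨fun h2 => (S.ρ g).injective (h2.trans (by rw [← S.rho_mul, mul_inv_cancel, S.rho_one])),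
    fun h2 => by rw [h2, ← S.rho_mul, mul_inv_cancel, S.rho_one]⟩

open Classical in
/-- The map of an orbit. -/
noncomputable def theta (q : SporB.Ru.Pt) (w : Ω) (x : SporB.Ru.Pt) : Ω :=
  if h : ∃ g : HH, g • q = x then S.ρ h.choose w else w

theorem theta_base {q : SporB.Ru.Pt} {w : Ω} (hs : S.SameStab q w) (g : HH) :
    S.theta q w (g • q) = S.ρ g w := by
  have h : ∃ k : HH, k • q = g • q := ⟨g, rfl⟩
  rw [theta, dif_pos h]
  have h1 := h.choose_spec
  have h2 : S.ρ (g⁻¹ * h.choose) w = w := (hs _).1 (by rw [mul_smul, h1, inv_smul_smul])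
  conv_rhs => rw [← h2, ← S.rho_mul, mul_inv_cancel_left]

theorem theta_self {q : SporB.Ru.Pt} {w : Ω} (hs : S.SameStab q w) : S.theta q w q = w := by
  have := S.theta_base hs 1
  rwa [one_smul, S.rho_one] at this

end Setting

end Cfsg.Agent.RuRec12
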